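import Mathlib.GroupTheory.Nilpotent
import Mathlib.Tactic.Group

/-! A `p`-group, `p` odd, normalised by two commuting involutions: what contains the three centralisers
contains the group. -/

set_option autoImplicit false

universe u

namespace Cfsg.Agent.CoprimeHHS

variable {X : Type u} [Group X] [Finite X] {p : ℕ} [hp : Fact p.Prime]

theorem exists_inverted (hp2 : p ≠ 2) {N A L : Subgroup X} (hN : IsPGroup p N) (hAN : A ≤ N) {t n : X}
    (ht : t * t = 1) (htA : t ∈ Subgroup.normalizer (A : Set X)) (hC : ∀ x ∈ N, t * x = x * t → x ∈ L)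
    (hn : n ∈ A) :
    ∃ j ∈ A, t * j * t = j⁻¹ ∧ n * j ∈ L ∧ (n⁻¹ * (t * n * t) ∈ L → n ∈ L) := by
  have hti : t⁻¹ = t := inv_eq_of_mul_eq_one_right ht
  have htc : t * n * t ∈ A := by
    have := (Subgroup.mem_normalizer_iff.1 htA n).1 hn
    rwa [hti] at this
  set k := n⁻¹ * (t * n * t) with hk
  have hkA : k ∈ A := mul_mem (inv_mem hn) htc
  have hkinv : t * k * t = k⁻¹ := by
    rw [hk, mul_inv_rev, inv_inv]
    calc t * (n⁻¹ * (t * n * t)) * t = t * n⁻¹ * t * n * (t * t) := by group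
      _ = t * n⁻¹ * t * n := by rw [ht, mul_one]
      _ = (t * n * t)⁻¹ * n := by rw [mul_inv_rev, mul_inv_rev, hti, mul_assoc t n⁻¹ t]
  obtain ⟨e, he⟩ := hN ⟨k, hAN hkA⟩
  have he' : k ^ p ^ e = 1 := congrArg Subtype.val he
  obtain ⟨q, hq⟩ : Odd (p ^ e) := ((Fact.out : p.Prime).odd_of_ne_two hp2).pow
  set j := k ^ (q + 1) with hj
  have hjj : j * j = k := by
    rw [hj, ← pow_add, show q + 1 + (q + 1) = p ^ e + 1 by omega, pow_succ, he', one_mul]
  have hjinv : t * j * t = j⁻¹ := by
    have h1 : t * j * t = (t * k * t⁻¹) ^ (q + 1) := by rw [conj_pow, hti, hj]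
    rw [h1, hti, hkinv, inv_pow, hj]
  have hjA : j ∈ A := pow_mem hkA _
  have hnj : n * j ∈ L := by
    refine hC _ (mul_mem (hAN hn) (hAN hjA)) ?_
    have h1 : t * (n * j) * t = n * j := by
      calc t * (n * j) * t = t * n * (t * t) * j * t := by rw [ht, mul_one]; group
        _ = (t * n * t) * (t * j * t) := by group
        _ = n * (j * j) * j⁻¹ := by rw [hjinv, hjj, hk]; group
        _ = n * j := by group
    calc t * (n * j) = t * (n * j) * (t * t) := by rw [ht, mul_one]
      _ = (t * (n * j) * t) * t := by group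
      _ = n * j * t := by rw [h1]
  refine ⟨j, hjA, hjinv, hnj, fun hkL => ?_⟩
  have := mul_mem hnj (inv_mem (pow_mem hkL (q + 1) : j ∈ L))
  rwa [mul_inv_cancel_right] at this

/-- The generation by the centralisers of a four group. -/
theorem le_of_involutions (hp2 : p ≠ 2) {N L : Subgroup X} (hN : IsPGroup p N) {f g : X} (hf2 : f * f = 1)
    (hg2 : g * g = 1) (hfg : f * g = g * f) (hfN : f ∈ Subgroup.normalizer (N : Set X))
    (hgN : g ∈ Subgroup.normalizer (N : Set X)) (hfL : f ∈ Subgroup.normalizer (L : Set X))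
    (hgL : g ∈ Subgroup.normalizer (L : Set X)) (hLN : L ≤ N) (hCf : ∀ x ∈ N, f * x = x * f → x ∈ L)
    (hCg : ∀ x ∈ N, g * x = x * g → x ∈ L) (hCfg : ∀ x ∈ N, f * g * x = x * (f * g) → x ∈ L) : N ≤ L := by
  by_contra hne
  have hlt : L < N := lt_of_le_of_ne hLN fun e => hne e.ge
  haveI := hN.isNilpotent
  have h1 := Group.normalizerCondition_of_isNilpotent (L.subgroupOf N) (lt_top_iff_ne_top.2 fun e =>
    not_le_of_gt hlt (Subgroup.subgroupOf_eq_top.1 e))
  refine not_le_of_gt h1 fun y hy => ?_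
  set A := N ⊓ Subgroup.normalizer (L : Set X) with hA
  have hyA : (y : X) ∈ A := by
    refine ⟨y.2, ?_⟩
    show (y : X) ∈ Subgroup.normalizer (L : Set X)
    rw [Subgroup.mem_normalizer_iff]
    intro z
    constructor
    · intro hz
      exact (Subgroup.mem_normalizer_iff.1 hy ⟨z, hLN hz⟩).1 hz
    · intro hz
      have hzN : z ∈ N := by
        have h2 := mul_mem (mul_mem (inv_mem y.2) (hLN hz)) y.2
        simpa [mul_assoc] using h2
      exact (Subgroup.mem_normalizer_iff.1 hy ⟨z, hzN⟩).2 hz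
  have hnorm : ∀ t, t ∈ Subgroup.normalizer (N : Set X) → t ∈ Subgroup.normalizer (L : Set X) →
      t ∈ Subgroup.normalizer (A : Set X) := by
    intro t htN htL
    rw [Subgroup.mem_normalizer_iff]
    intro z
    have h3 : z ∈ Subgroup.normalizer (L : Set X) ↔ t * z * t⁻¹ ∈ Subgroup.normalizer (L : Set X) := by
      constructor
      · exact fun hz => mul_mem (mul_mem htL hz) (inv_mem htL)
      · intro hz
        have := mul_mem (mul_mem (inv_mem htL) hz) htL
        simpa [mul_assoc] using this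
    exact ⟨fun hz => ⟨(Subgroup.mem_normalizer_iff.1 htN z).1 hz.1, h3.1 hz.2⟩,
      fun hz => ⟨(Subgroup.mem_normalizer_iff.1 htN z).2 hz.1, h3.2 hz.2⟩⟩
  show (y : X) ∈ L
  obtain ⟨j, hjA, hjf, hyj, -⟩ := exists_inverted hp2 hN inf_le_left hf2 (hnorm f hfN hfL) hCf hyA
  suffices hjL : j ∈ L by
    have := mul_mem hyj (inv_mem hjL)
    rwa [mul_inv_cancel_right] at this
  obtain ⟨i, hiA, hig, hji, -⟩ := exists_inverted hp2 hN inf_le_left hg2 (hnorm g hgN hgL) hCg hjA
  have hfgN := mul_mem hfN hgN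
  have hfgL := mul_mem hfL hgL
  have hfg2 : f * g * (f * g) = 1 := by
    calc f * g * (f * g) = f * g * (g * f) := by rw [hfg]
      _ = f * (g * g) * f := by group
      _ = 1 := by rw [hg2, mul_one, hf2]
  obtain ⟨-, -, -, -, hend⟩ := exists_inverted hp2 hN inf_le_left hfg2 (hnorm _ hfgN hfgL) hCfg hjA
  refine hend ?_
  -- `j` is inverted by both modulo `L`
  set l := j * i with hl
  have hgi : g⁻¹ = g := inv_eq_of_mul_eq_one_right hg2
  have hfi : f⁻¹ = f := inv_eq_of_mul_eq_one_right hf2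
  have hgl : g * l * g ∈ L := by
    have := (Subgroup.mem_normalizer_iff.1 hgL l).1 hji
    rwa [hgi] at this
  have h5 : g * j * g * j = g * l * g * (i * l * i⁻¹) := by
    rw [show g * j * g = g * l * g * (g * i⁻¹ * g) by
      rw [hl]
      calc g * j * g = g * (j * i) * (g * g) * i⁻¹ * g := by rw [hg2]; group
        _ = g * (j * i) * g * (g * i⁻¹ * g) := by group]
    rw [show g * i⁻¹ * g = i by
      have h6 := congrArg (fun z : X => z⁻¹) hig
      simp only [mul_inv_rev, inv_inv, hgi] at h6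
      rw [mul_assoc]; exact h6]
    rw [hl]
    group
  have hgjj : g * j * g * j ∈ L := h5 ▸ mul_mem hgl ((Subgroup.mem_normalizer_iff.1 hiA.2 l).1 hji)
  have h7 := (Subgroup.mem_normalizer_iff.1 hfL _).1 hgjj
  have h8 : f * g * j * (f * g) * j⁻¹ ∈ L := by
    rw [hfi] at h7
    convert h7 using 1
    rw [← hjf]
    calc f * g * j * (f * g) * (f * j * f) = f * g * j * (g * f) * (f * j * f) := by rw [hfg]
      _ = f * (g * j * g) * (f * f) * j * f := by group
      _ = f * (g * j * g * j) * f := by rw [hf2]; group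
  have h9 := (Subgroup.mem_normalizer_iff.1 (inv_mem hjA.2) _).1 h8
  simpa [mul_assoc] using h9

end Cfsg.Agent.CoprimeHHS
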