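import Cfsg.Agent.Lib.Solvable.Coprime
import Mathlib.GroupTheory.SemidirectProduct

/-! An automorphism `s` with `s ^ r = 1`, `r` prime to the order of the group: invariant subgroups,
fixed points in sections, invariant Sylow subgroups, the subgroup of displacements. -/

set_option autoImplicit false
open scoped Pointwise

namespace Cfsg.Agent.CoprimeHHS

variable {G : Type*} [Group G]

/-- The fixed points of an automorphism. -/
def fixed (s : MulAut G) : Subgroup G where
  carrier := {x | s x = x}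
  one_mem' := map_one s
  mul_mem' {a b} ha hb := by
    show s (a * b) = a * b
    rw [map_mul, ha, hb]
  inv_mem' {a} ha := by
    show s a⁻¹ = a⁻¹
    rw [map_inv, ha]

theorem mem_fixed {s : MulAut G} {x : G} : x ∈ fixed s ↔ s x = x := Iff.rfl

/-- An invariant subgroup. -/
def Inv (s : MulAut G) (H : Subgroup G) : Prop := ∀ x ∈ H, s x ∈ H

/-- The standing hypotheses: `s ^ r = 1` with `r` a prime not dividing the group order. -/
structure Cop (r : ℕ) (s : MulAut G) : Prop where
  prime : r.Prime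
  pow_eq : s ^ r = 1
  ndvd : ¬ r ∣ Nat.card G

/-- The subgroup generated by the displacements of a subgroup. -/
def disp (s : MulAut G) (H : Subgroup G) : Subgroup G :=
  Subgroup.closure ((fun x => x⁻¹ * s x) '' (H : Set G))

theorem disp_mem {s : MulAut G} {H : Subgroup G} {x : G} (hx : x ∈ H) : x⁻¹ * s x ∈ disp s H :=
  Subgroup.subset_closure ⟨x, hx, rfl⟩

theorem disp_mono {s : MulAut G} {H K : Subgroup G} (h : H ≤ K) : disp s H ≤ disp s K :=
  Subgroup.closure_mono (Set.image_mono h)

theorem disp_eq_bot {s : MulAut G} {H : Subgroup G} : disp s H = ⊥ ↔ H ≤ fixed s := by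
  rw [eq_bot_iff, disp, Subgroup.closure_le]
  constructor
  · intro h x hx
    exact (inv_mul_eq_one.1 (h ⟨x, hx, rfl⟩ : x⁻¹ * s x = 1)).symm
  · rintro h _ ⟨x, hx, rfl⟩
    exact inv_mul_eq_one.2 (h hx).symm

namespace Inv

variable {s : MulAut G} {H K : Subgroup G}

theorem bot : Inv s (⊥ : Subgroup G) := fun x hx => by
  rw [Subgroup.mem_bot] at hx ⊢; rw [hx, map_one]

theorem top : Inv s (⊤ : Subgroup G) := fun _ _ => trivial

theorem inf (hH : Inv s H) (hK : Inv s K) : Inv s (H ⊓ K) := fun x hx => ⟨hH x hx.1, hK x hx.2⟩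

theorem closure {X : Set G} (h : ∀ x ∈ X, s x ∈ Subgroup.closure X) : Inv s (Subgroup.closure X) :=
  fun x hx => by
    induction hx using Subgroup.closure_induction with
    | mem y hy => exact h y hy
    | one => rw [map_one]; exact one_mem _
    | mul a b _ _ ha hb => rw [map_mul]; exact mul_mem ha hb
    | inv a _ ha => rw [map_inv]; exact inv_mem ha

theorem sup (hH : Inv s H) (hK : Inv s K) : Inv s (H ⊔ K) := by
  rw [Subgroup.sup_eq_closure]
  refine closure ?_
  rintro x (hx | hx)
  exacts [Subgroup.subset_closure (Or.inl (hH x hx)), Subgroup.subset_closure (Or.inr (hK x hx))]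

theorem centralizer [Finite G] (hH : Inv s H) : Inv s (Subgroup.centralizer (H : Set G)) := by
  intro x hx
  rw [Subgroup.mem_centralizer_iff] at hx ⊢
  intro y hy
  have hsurj : Function.Surjective (fun z : H => (⟨s z, hH z z.2⟩ : H)) :=
    Finite.surjective_of_injective fun a b hab =>
      Subtype.ext (s.injective (congrArg Subtype.val hab))
  obtain ⟨⟨z, hz⟩, hzy⟩ := hsurj ⟨y, hy⟩
  have hzy' : s z = y := congrArg Subtype.val hzy
  rw [← hzy', ← map_mul, ← map_mul, hx z hz]

theorem symm_mem [Finite G] (hH : Inv s H) {x : G} (hx : s x ∈ H) : x ∈ H := by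
  have hsurj : Function.Surjective (fun z : H => (⟨s z, hH z z.2⟩ : H)) :=
    Finite.surjective_of_injective fun a b hab =>
      Subtype.ext (s.injective (congrArg Subtype.val hab))
  obtain ⟨⟨z, hz⟩, hzy⟩ := hsurj ⟨s x, hx⟩
  rwa [← s.injective (congrArg Subtype.val hzy)]

theorem normalizer [Finite G] (hH : Inv s H) : Inv s (Subgroup.normalizer (H : Set G)) := by
  intro x hx
  rw [Subgroup.mem_normalizer_iff] at hx ⊢
  intro y
  obtain ⟨z, rfl⟩ := s.surjective y
  rw [← map_inv, ← map_mul, ← map_mul]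
  exact ⟨fun h => hH _ ((hx z).1 (hH.symm_mem h)), fun h => hH _ ((hx z).2 (hH.symm_mem h))⟩

theorem pow (hH : Inv s H) (n : ℕ) : Inv (s ^ n) H := by
  induction n with
  | zero => exact fun x hx => hx
  | succ k ih => intro x hx; rw [pow_succ, MulAut.mul_apply]; exact ih _ (hH x hx)

theorem map_eq [Finite G] (hH : Inv s H) : H.map s.toMonoidHom = H := by
  refine le_antisymm (by rintro _ ⟨x, hx, rfl⟩; exact hH x hx) fun x hx => ?_
  obtain ⟨y, rfl⟩ := s.surjective x
  exact ⟨y, hH.symm_mem hx, rfl⟩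

/-- The conjugate of an invariant subgroup by a fixed element is invariant. -/
theorem conj (hH : Inv s H) {c : G} (hc : s c = c) : Inv s (H.map (MulAut.conj c).toMonoidHom) := by
  rintro _ ⟨x, hx, rfl⟩
  exact ⟨s x, hH x hx, by simp [hc]⟩

/-- The restriction of `s`. -/
noncomputable def aut [Finite G] (hH : Inv s H) : MulAut H where
  toEquiv := Equiv.ofBijective (fun x : H => (⟨s x, hH x x.2⟩ : H))
    (Finite.injective_iff_bijective.1 fun _ _ hab => Subtype.ext (s.injective (congrArg Subtype.val hab)))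
  map_mul' a b := Subtype.ext (map_mul s _ _)

@[simp] theorem aut_apply [Finite G] (hH : Inv s H) (x : H) : (hH.aut x : G) = s x := rfl

theorem aut_pow_apply [Finite G] (hH : Inv s H) (n : ℕ) (x : H) : ((hH.aut ^ n) x : G) = (s ^ n) x := by
  induction n generalizing x with
  | zero => rfl
  | succ k ih => rw [pow_succ, pow_succ, MulAut.mul_apply, MulAut.mul_apply, ih, aut_apply]

/-- Invariant normal subgroups give automorphisms of the quotient. -/
noncomputable def qAut [Finite G] {N : Subgroup G} [N.Normal] (hN : Inv s N) : MulAut (G ⧸ N) :=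
  QuotientGroup.congr N N s hN.map_eq

@[simp] theorem qAut_mk [Finite G] {N : Subgroup G} [N.Normal] (hN : Inv s N) (x : G) :
    hN.qAut (QuotientGroup.mk x) = QuotientGroup.mk (s x) := rfl

theorem qAut_pow_mk [Finite G] {N : Subgroup G} [N.Normal] (hN : Inv s N) (n : ℕ) (x : G) :
    (hN.qAut ^ n) (QuotientGroup.mk x) = QuotientGroup.mk ((s ^ n) x) := by
  induction n generalizing x with
  | zero => rfl
  | succ k ih => rw [pow_succ, pow_succ, MulAut.mul_apply, MulAut.mul_apply, qAut_mk, ih]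

theorem map_mk [Finite G] {N : Subgroup G} [N.Normal] (hN : Inv s N) (hH : Inv s H) :
    Inv hN.qAut (H.map (QuotientGroup.mk' N)) := by
  rintro _ ⟨x, hx, rfl⟩
  exact ⟨s x, hH x hx, rfl⟩

theorem comap_mk [Finite G] {N : Subgroup G} [N.Normal] (hN : Inv s N) {L : Subgroup (G ⧸ N)}
    (hL : Inv hN.qAut L) : Inv s (L.comap (QuotientGroup.mk' N)) :=
  fun x hx => hL (QuotientGroup.mk x) hx

end Inv

theorem inv_fixed (s : MulAut G) : Inv s (fixed s) := fun x hx => by
  rw [mem_fixed] at hx ⊢; rw [hx, hx]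

theorem inv_disp {s : MulAut G} {H : Subgroup G} (hH : Inv s H) : Inv s (disp s H) := by
  refine Inv.closure ?_
  rintro _ ⟨x, hx, rfl⟩
  exact Subgroup.subset_closure ⟨s x, hH x hx, by simp⟩

theorem disp_le {s : MulAut G} {H : Subgroup G} (hH : Inv s H) : disp s H ≤ H :=
  (Subgroup.closure_le H).2 (by rintro _ ⟨x, hx, rfl⟩; exact mul_mem (inv_mem hx) (hH x hx))

/-- `[H,s]` is normalised by `H`. -/
theorem le_normalizer_disp [Finite G] {s : MulAut G} {H : Subgroup G} (hH : Inv s H) :
    H ≤ Subgroup.normalizer (disp s H : Set G) := by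
  intro g hg
  have key : ∀ a ∈ H, ∀ y ∈ disp s H, a * y * a⁻¹ ∈ disp s H := by
    intro a ha y hy
    induction hy using Subgroup.closure_induction with
    | mem z hz =>
      obtain ⟨x, hx, rfl⟩ := hz
      have e : a * (x⁻¹ * s x) * a⁻¹ = ((x * a⁻¹)⁻¹ * s (x * a⁻¹)) * (((a⁻¹)⁻¹ * s a⁻¹))⁻¹ := by
        rw [map_mul]; group
      simp only
      rw [e]
      exact mul_mem (disp_mem (mul_mem hx (inv_mem ha))) (inv_mem (disp_mem (inv_mem ha)))
    | one => simp
    | mul u v _ _ hu hv =>
      rw [show a * (u * v) * a⁻¹ = a * u * a⁻¹ * (a * v * a⁻¹) by group]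
      exact mul_mem hu hv
    | inv u _ hu =>
      rw [show a * u⁻¹ * a⁻¹ = (a * u * a⁻¹)⁻¹ by group]
      exact inv_mem hu
  rw [Subgroup.mem_normalizer_iff]
  refine fun y => ⟨key g hg y, fun hy => ?_⟩
  have := key g⁻¹ (inv_mem hg) _ hy
  simpa [mul_assoc] using this

theorem disp_normal [Finite G] (s : MulAut G) : (disp s (⊤ : Subgroup G)).Normal :=
  Subgroup.normalizer_eq_top_iff.1 (top_le_iff.1 (le_normalizer_disp Inv.top))

namespace Cop

variable [Finite G] {r : ℕ} {s : MulAut G}

/-- Subgroups inherit the hypotheses. -/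
theorem sub (h : Cop r s) {H : Subgroup G} (hH : Inv s H) : Cop r hH.aut where
  prime := h.prime
  pow_eq := MulEquiv.ext fun x => Subtype.ext (by rw [Inv.aut_pow_apply, h.pow_eq]; rfl)
  ndvd := fun hd => h.ndvd (hd.trans (Subgroup.card_subgroup_dvd_card H))

/-- Quotients inherit the hypotheses. -/
theorem quot (h : Cop r s) {N : Subgroup G} [N.Normal] (hN : Inv s N) : Cop r hN.qAut where
  prime := h.prime
  pow_eq := MulEquiv.ext fun x => by
    obtain ⟨g, rfl⟩ := QuotientGroup.mk_surjective x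
    rw [Inv.qAut_pow_mk, h.pow_eq]; rfl
  ndvd := fun hd => h.ndvd (hd.trans (Subgroup.card_quotient_dvd_card N))

theorem pow_orderOf_dvd (h : Cop r s) : orderOf s ∣ r := orderOf_dvd_of_pow_eq_one h.pow_eq

/-- An element fixed by a power `s ^ i` with `r ∤ i` is fixed by `s`. -/
theorem fixed_of_pow (h : Cop r s) {i : ℕ} (hi : ¬ r ∣ i) {x : G} (hx : (s ^ i) x = x) : s x = x := by
  obtain ⟨a, ha⟩ := exists_pow_eq_self_of_coprime
    (x := s) (Nat.Coprime.coprime_dvd_right h.pow_orderOf_dvd ((Nat.coprime_comm.1 (h.prime.coprime_iff_not_dvd.2 hi))))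
  have : ∀ k : ℕ, ((s ^ i) ^ k) x = x := fun k => by
    induction k with
    | zero => rfl
    | succ k ih => rw [pow_succ, MulAut.mul_apply, hx, ih]
  conv_lhs => rw [← ha]
  exact this a

end Cop

/-! ### The semidirect product -/

section semi

variable [Finite G] (s : MulAut G)

abbrev Ext := G ⋊[(Subgroup.zpowers s).subtype] (Subgroup.zpowers s)

instance : Finite (Ext s) :=
  haveI : Finite (MulAut G) := Finite.of_injective _ MulEquiv.toEquiv_injective
  Finite.of_equiv _ SemidirectProduct.equivProd.symm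

/-- The base of the semidirect product. -/
abbrev base : G →* Ext s := SemidirectProduct.inl

/-- The copy of `⟨s⟩`. -/
def actor : Subgroup (Ext s) :=
  (SemidirectProduct.inr : Subgroup.zpowers s →* Ext s).range

theorem base_injective : Function.Injective (base s) := SemidirectProduct.inl_injective

theorem actor_conj (a : Subgroup.zpowers s) (x : G) :
    (SemidirectProduct.inr a : Ext s) * base s x * (SemidirectProduct.inr a)⁻¹ = base s ((a : MulAut G) x) := by
  rw [← map_inv]
  exact (SemidirectProduct.inl_aut a x).symm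

variable {s}

theorem Inv.zpow {H : Subgroup G} (hH : Inv s H) {a : MulAut G} (ha : a ∈ Subgroup.zpowers s) : Inv a H := by
  haveI : Finite (MulAut G) := Finite.of_injective _ MulEquiv.toEquiv_injective
  obtain ⟨n, rfl⟩ := mem_powers_iff_mem_zpowers.2 ha
  exact hH.pow n

theorem actor_le_normalizer {H : Subgroup G} (hH : Inv s H) :
    actor s ≤ Subgroup.normalizer ((H.map (base s)) : Set (Ext s)) := by
  rintro _ ⟨a, rfl⟩
  rw [Subgroup.mem_normalizer_iff]
  intro y
  constructor
  · rintro ⟨x, hx, rfl⟩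
    exact ⟨_, hH.zpow a.2 x hx, (actor_conj s a x).symm⟩
  · rintro ⟨x, hx, hxy⟩
    refine ⟨((a⁻¹ : Subgroup.zpowers s) : MulAut G) x, hH.zpow (a⁻¹).2 x hx, ?_⟩
    rw [← actor_conj, hxy, map_inv]
    group

theorem inv_of_actor_le {H : Subgroup G}
    (h : actor s ≤ Subgroup.normalizer ((H.map (base s)) : Set (Ext s))) : Inv s H := by
  intro x hx
  obtain ⟨y, hy, hye⟩ := (Subgroup.mem_normalizer_iff.1
    (h ⟨⟨s, Subgroup.mem_zpowers s⟩, rfl⟩) (base s x)).1 ⟨x, hx, rfl⟩
  rw [actor_conj] at hye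
  rwa [← base_injective s hye]

theorem mem_centralizer_actor {c : G} :
    base s c ∈ Subgroup.centralizer (actor s : Set (Ext s)) ↔ s c = c := by
  rw [Subgroup.mem_centralizer_iff]
  constructor
  · intro h
    have h1 := h _ ⟨⟨s, Subgroup.mem_zpowers s⟩, rfl⟩
    rw [← mul_inv_eq_iff_eq_mul, actor_conj] at h1
    exact base_injective s h1
  · rintro hc _ ⟨a, rfl⟩
    rw [← mul_inv_eq_iff_eq_mul, actor_conj]
    congr 1
    obtain ⟨⟨n, hn⟩⟩ : Nonempty {n : ℤ // s ^ n = (a : MulAut G)} := by
      obtain ⟨n, hn⟩ := Subgroup.mem_zpowers_iff.1 a.2; exact ⟨⟨n, hn⟩⟩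
    rw [← hn]
    have hfix : s ∈ MulAction.stabilizer (MulAut G) c := hc
    exact zpow_mem hfix n

theorem coprime_actor {r : ℕ} (h : Cop r s) (H : Subgroup G) :
    (Nat.card (actor s)).Coprime (Nat.card (H.map (base s) : Subgroup (Ext s))) := by
  rw [Nat.card_congr (Subgroup.equivMapOfInjective H _ (base_injective s)).symm.toEquiv,
    show Nat.card (actor s) = orderOf s by
      rw [actor, ← Nat.card_congr (MonoidHom.ofInjective SemidirectProduct.inr_injective).toEquiv, Nat.card_zpowers]]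
  exact Nat.Coprime.coprime_dvd_left h.pow_orderOf_dvd
    (h.prime.coprime_iff_not_dvd.2 fun hd => h.ndvd (hd.trans (Subgroup.card_subgroup_dvd_card H)))

theorem solvable_actor : Group.IsSolvable (actor s) :=
  haveI : Group.IsSolvable (Subgroup.zpowers s) :=
    Group.isSolvable_of_comm fun a b => mul_comm' a b
  Group.isSolvable_of_surjective (f := (SemidirectProduct.inr : Subgroup.zpowers s →* Ext s).rangeRestrict)
    (MonoidHom.rangeRestrict_surjective _)

end semi

namespace Cop

variable [Finite G] {r : ℕ} {s : MulAut G}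

/-- A fixed coset of an invariant subgroup contains a fixed element. -/
theorem exists_fixed (h : Cop r s) {K N : Subgroup G} (hK : Inv s K) (hN : Inv s N) (hNK : N ≤ K)
    (hKN : K ≤ Subgroup.normalizer (N : Set G)) {k : G} (hk : k ∈ K) (hfix : k⁻¹ * s k ∈ N) :
    ∃ c ∈ K, s c = c ∧ k⁻¹ * c ∈ N := by
  obtain ⟨c, ⟨⟨c', hc', rfl⟩, hcA⟩, hkc⟩ := CoprimeAct.exists_mem_centralizer (actor_le_normalizer hK)
    (coprime_actor h K) (Or.inl solvable_actor) (N := N.map (base s)) (Subgroup.map_mono hNK)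
    ((Subgroup.map_mono hKN).trans (Subgroup.le_normalizer_map (base s))) (actor_le_normalizer hN)
    (k := base s k) ⟨k, hk, rfl⟩ (by
      rintro _ ⟨⟨a, ha⟩, rfl⟩
      rw [actor_conj, ← map_inv, ← map_mul]
      refine ⟨_, ?_, rfl⟩
      haveI : Finite (MulAut G) := Finite.of_injective _ MulEquiv.toEquiv_injective
      obtain ⟨n, rfl⟩ := mem_powers_iff_mem_zpowers.2 ha
      have hin : k⁻¹ * (s ^ n) k ∈ N := by
        induction n with
        | zero => simp
        | succ j ih =>
          have : k⁻¹ * (s ^ (j + 1)) k = k⁻¹ * s k * s (k⁻¹ * (s ^ j) k) := by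
            rw [pow_succ', MulAut.mul_apply, map_mul, map_inv]; group
          rw [this]
          exact mul_mem hfix (hN _ (ih (Subgroup.mem_zpowers_iff.2 ⟨j, zpow_natCast _ _⟩)))
      have := (Subgroup.mem_normalizer_iff.1 (hKN hk) _).1 hin
      simpa [mul_assoc] using this)
  refine ⟨c', hc', mem_centralizer_actor.1 hcA, ?_⟩
  obtain ⟨n, hn, hne⟩ := hkc
  rw [← map_inv, ← map_mul] at hne
  rwa [← base_injective s hne]

/-- Fixed points of a quotient come from fixed points. -/
theorem exists_fixed_mk (h : Cop r s) {N : Subgroup G} [N.Normal] (hN : Inv s N) {x : G ⧸ N}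
    (hx : hN.qAut x = x) : ∃ c, s c = c ∧ QuotientGroup.mk c = x := by
  obtain ⟨k, rfl⟩ := QuotientGroup.mk_surjective x
  rw [Inv.qAut_mk, eq_comm, QuotientGroup.eq] at hx
  obtain ⟨c, -, hc, hkc⟩ := h.exists_fixed Inv.top hN le_top Subgroup.le_normalizer_of_normal trivial hx
  exact ⟨c, hc, (QuotientGroup.eq.2 hkc).symm⟩

theorem fixed_qAut (h : Cop r s) {N : Subgroup G} [N.Normal] (hN : Inv s N) :
    fixed hN.qAut = (fixed s).map (QuotientGroup.mk' N) := by
  ext x
  constructor
  · intro hx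
    obtain ⟨c, hc, rfl⟩ := h.exists_fixed_mk hN hx
    exact ⟨c, hc, rfl⟩
  · rintro ⟨c, hc, rfl⟩
    exact congrArg QuotientGroup.mk hc

/-- `H = [H,s] C_H(s)`. -/
theorem exists_disp_mul (h : Cop r s) {H : Subgroup G} (hH : Inv s H) {x : G} (hx : x ∈ H) :
    ∃ d ∈ disp s H, ∃ c ∈ H, s c = c ∧ x = d * c := by
  obtain ⟨c, hc, hsc, hxc⟩ := h.exists_fixed hH (inv_disp hH) (disp_le hH) (le_normalizer_disp hH) hx
    (disp_mem hx)
  refine ⟨x * c⁻¹, ?_, c, hc, hsc, by group⟩
  have := (Subgroup.mem_normalizer_iff.1 (le_normalizer_disp hH hx) _).1 (inv_mem hxc)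
  simpa [mul_assoc] using this

/-- `[H,s,s] = [H,s]`. -/
theorem disp_disp (h : Cop r s) {H : Subgroup G} (hH : Inv s H) : disp s (disp s H) = disp s H := by
  refine le_antisymm (disp_le (inv_disp hH)) ((Subgroup.closure_le _).2 ?_)
  rintro _ ⟨x, hx, rfl⟩
  obtain ⟨c, hc, hsc, hxc⟩ := h.exists_fixed hH (inv_disp hH) (disp_le hH) (le_normalizer_disp hH) hx
    (disp_mem hx)
  have : x⁻¹ * s x = (x⁻¹ * c) * s (x⁻¹ * c)⁻¹ := by simp [hsc, mul_assoc]
  show x⁻¹ * s x ∈ disp s (disp s H)
  rw [this]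
  have h1 := disp_mem (s := s) (inv_mem hxc : (x⁻¹ * c)⁻¹ ∈ disp s H)
  simpa using h1

/-- An invariant subgroup has an invariant Sylow subgroup containing a given invariant one. -/
theorem exists_sylow_ge (h : Cop r s) (p : ℕ) [Fact p.Prime] {H U : Subgroup G} (hH : Inv s H)
    (hUH : U ≤ H) (hU : IsPGroup p U) (hUi : Inv s U) :
    ∃ P : Subgroup G, U ≤ P ∧ P ≤ H ∧ Inv s P ∧ IsPGroup p P ∧
      Nat.card P = p ^ (Nat.card H).factorization p := by
  obtain ⟨P, hUP, hPA⟩ := CoprimeAct.exists_invariant_sylow_ge (actor_le_normalizer hH) (coprime_actor h H)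
    (Or.inl solvable_actor) (Subgroup.map_mono hUH) (hU.map (base s)) (actor_le_normalizer hUi)
  set Q : Subgroup (Ext s) := (P : Subgroup (H.map (base s))).map (H.map (base s)).subtype with hQ
  have hQH : Q ≤ H.map (base s) := Subgroup.map_subtype_le _
  have hQe : (Q.comap (base s)).map (base s) = Q :=
    Subgroup.map_comap_eq_self (hQH.trans (Subgroup.map_le_range _ _))
  refine ⟨Q.comap (base s), ?_, ?_, inv_of_actor_le (hQe.symm ▸ hPA), ?_, ?_⟩
  · exact fun x hx => hUP ⟨x, hx, rfl⟩
  · intro x hx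
    obtain ⟨y, hy, hye⟩ := hQH hx
    rwa [← base_injective s hye]
  · exact (P.isPGroup'.map _).comap_of_injective _ (base_injective s)
  · rw [Nat.card_congr (Subgroup.equivMapOfInjective (Q.comap (base s)) _ (base_injective s)).toEquiv, hQe,
      hQ, ← Nat.card_congr (Subgroup.equivMapOfInjective (P : Subgroup _) _ (H.map (base s)).subtype_injective).toEquiv,
      P.card_eq_multiplicity,
      Nat.card_congr (Subgroup.equivMapOfInjective H _ (base_injective s)).symm.toEquiv]

/-- Two invariant Sylow subgroups of an invariant subgroup are conjugate by a fixed element of it. -/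
theorem sylow_conj (h : Cop r s) (p : ℕ) [Fact p.Prime] {H P Q : Subgroup G} (hH : Inv s H)
    (hPH : P ≤ H) (hQH : Q ≤ H) (hPi : Inv s P) (hQi : Inv s Q)
    (hP : Nat.card P = p ^ (Nat.card H).factorization p) (hQ : Nat.card Q = p ^ (Nat.card H).factorization p) :
    ∃ c ∈ H, s c = c ∧ P.map (MulAut.conj c).toMonoidHom = Q := by
  have hcardH : Nat.card (H.map (base s) : Subgroup (Ext s)) = Nat.card H :=
    Nat.card_congr (Subgroup.equivMapOfInjective H _ (base_injective s)).symm.toEquiv
  have mk : ∀ R : Subgroup G, R ≤ H → Nat.card R = p ^ (Nat.card H).factorization p →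
      ∃ R' : Sylow p (H.map (base s)), (R' : Subgroup (H.map (base s))).map (H.map (base s)).subtype = R.map (base s) := by
    intro R hRH hR
    refine ⟨Sylow.ofCard ((R.map (base s)).subgroupOf (H.map (base s))) ?_, ?_⟩
    · rw [Nat.card_congr (Subgroup.subgroupOfEquivOfLe (Subgroup.map_mono hRH)).toEquiv, hcardH,
        Nat.card_congr (Subgroup.equivMapOfInjective R _ (base_injective s)).symm.toEquiv, hR]
    · rw [Sylow.coe_ofCard, Subgroup.map_subgroupOf_eq_of_le (Subgroup.map_mono hRH)]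
  obtain ⟨P', hP'⟩ := mk P hPH hP
  obtain ⟨Q', hQ'⟩ := mk Q hQH hQ
  obtain ⟨⟨c, hc⟩, hcA, hcPQ⟩ := CoprimeAct.invariant_sylow_conj (actor_le_normalizer hH)
    (coprime_actor h H) (Or.inl solvable_actor) P' Q' (hP' ▸ actor_le_normalizer hPi)
    (hQ' ▸ actor_le_normalizer hQi)
  obtain ⟨d, hd, rfl⟩ := hc
  refine ⟨d, hd, mem_centralizer_actor.1 hcA, Subgroup.map_injective (base_injective s) ?_⟩
  have e := hQ'
  rw [← hcPQ] at e
  refine e ▸ ?_
  have hcomp : (base s).comp (MulAut.conj d).toMonoidHom =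
      (MulAut.conj (base s d)).toMonoidHom.comp (base s) := MonoidHom.ext fun x => by simp
  rw [Subgroup.map_map, hcomp, ← Subgroup.map_map, ← hP', Subgroup.map_map]
  symm
  change Subgroup.map (H.map (base s)).subtype ((P' : Subgroup (H.map (base s))).map _) = _
  erw [Subgroup.map_map]
  exact congrArg (fun f => (P' : Subgroup (H.map (base s))).map f) (MonoidHom.ext fun x => rfl)

end Cop

end Cfsg.Agent.CoprimeHHS
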