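import Cfsg.Agent.Lib.CoprimeHHS.LayerMain

/-! Flavell's theorem for subgroups with an action of a group of prime order by conjugation. -/

set_option autoImplicit false
set_option linter.style.haveILetI false
open scoped commutatorElement
open Subgroup

universe u

namespace Cfsg.Agent.LayerIn

open CoprimeHHS

variable {X : Type u} [Group X] [Finite X]

/-- S1933, modulo the odd order theorem. -/
theorem layer_le_of_normalizer (hOdd : OddChar.OddSolvable.{u}) (G R : Subgroup X) (r : ℕ) [Fact r.Prime]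
    (hR : Nat.card R = r) (hcop : (Nat.card G).Coprime r) (hnorm : R ≤ normalizer (G : Set X))
    (H : Subgroup X) (hHG : H ≤ G) (hHinv : R ⊔ (G ⊓ centralizer (R : Set X)) ≤ normalizer (H : Set X))
    (hHR : ⁅H, R⁆ = H) :
    (Cfsg.layer H).map H.subtype ≤ (Cfsg.layer G).map G.subtype := by
  have hr : r.Prime := Fact.out
  obtain ⟨⟨a, ha⟩, ha1⟩ : ∃ a : R, a ≠ 1 := by
    haveI : Nontrivial R := Finite.one_lt_card_iff_nontrivial.1 (hR ▸ hr.one_lt)
    exact exists_ne 1
  have har : a ^ r = 1 := by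
    have h := pow_card_eq_one' (x := (⟨a, ha⟩ : R))
    rw [hR] at h
    exact congrArg Subtype.val h
  have hgen : Subgroup.zpowers a = R := Subgroup.eq_of_le_of_card_ge (Subgroup.zpowers_le.2 ha) (by
    rw [Nat.card_zpowers, hR, orderOf_eq_prime har fun e => ha1 (Subtype.ext e)])
  set s : MulAut G := G.normalizerMonoidHom ⟨a, hnorm ha⟩ with hs
  have hsv : ∀ g : G, (s g : X) = a * g * a⁻¹ := fun g => rfl
  have hC : Cop r s := ⟨hr, by
    rw [hs, ← map_pow, show (⟨a, hnorm ha⟩ : normalizer (G : Set X)) ^ r = 1 from Subtype.ext har, map_one],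
    fun hd => (hr.coprime_iff_not_dvd.1 (Nat.coprime_comm.1 hcop)) hd⟩
  set H' := H.subgroupOf G with hH'
  have hHa : ∀ x ∈ H, a * x * a⁻¹ ∈ H := fun x hx =>
    (mem_normalizer_iff.1 (hHinv (mem_sup_left ha)) x).1 hx
  have hH'i : Inv s H' := fun x hx => hHa (x : X) hx
  have hfix : fixed s ≤ normalizer (H' : Set G) := fun c hc => by
    have h1 : a * (c : X) * a⁻¹ = c := congrArg Subtype.val hc
    have h2 : (c : X) ∈ centralizer (R : Set X) := by
      refine mem_centralizer_iff.2 fun y hy => ?_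
      rw [SetLike.mem_coe, ← hgen] at hy
      obtain ⟨i, rfl⟩ := hy
      exact (Commute.zpow_left (show Commute a (c : X) from mul_inv_eq_iff_eq_mul.1 h1) i).eq
    exact mem_normalizer_fintype fun x hx =>
      (mem_normalizer_iff.1 (hHinv (mem_sup_right ⟨c.2, h2⟩)) (x : X)).1 hx
  -- `[H, a] = H`
  set D := (disp s H').map G.subtype with hD
  have hdi : disp s H' ≤ H' := disp_le hH'i
  have hDH : D ≤ H := by rintro _ ⟨x, hx, rfl⟩; exact hdi hx
  have hDN : H ≤ normalizer (D : Set X) := fun x hx => by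
    refine mem_normalizer_fintype ?_
    rintro _ ⟨y, hy, rfl⟩
    exact ⟨_, (mem_normalizer_iff.1 (le_normalizer_disp hH'i (show (⟨x, hHG hx⟩ : G) ∈ H' from hx)) y).1 hy, rfl⟩
  have hDa : ∀ x ∈ H, ∀ n : ℕ, x⁻¹ * (a ^ n * x * (a ^ n)⁻¹) ∈ D := fun x hx n => by
    induction n with
    | zero => simp
    | succ n ih =>
      have hy : a ^ n * x * (a ^ n)⁻¹ ∈ H :=
        (mem_normalizer_iff.1 (hHinv (mem_sup_left (pow_mem ha n))) x).1 hx
      have h2 : (a ^ n * x * (a ^ n)⁻¹)⁻¹ * (a * (a ^ n * x * (a ^ n)⁻¹) * a⁻¹) ∈ D :=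
        ⟨_, disp_mem (s := s) (show (⟨_, hHG hy⟩ : G) ∈ H' from hy), rfl⟩
      have h3 := mul_mem ih h2
      rwa [show x⁻¹ * (a ^ n * x * (a ^ n)⁻¹) * ((a ^ n * x * (a ^ n)⁻¹)⁻¹ * (a * (a ^ n * x * (a ^ n)⁻¹) * a⁻¹)) =
        x⁻¹ * (a ^ (n + 1) * x * (a ^ (n + 1))⁻¹) by rw [pow_succ']; group] at h3
  have hHD : H ≤ D := by
    rw [← hHR, commutator_le]
    intro x hx y hy
    rw [← hgen] at hy
    obtain ⟨n, rfl⟩ := mem_powers_iff_mem_zpowers.2 hy
    have h1 := inv_mem (hDa x hx n)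
    have h2 := (mem_normalizer_iff.1 (hDN hx) _).1 h1
    rwa [show x * (x⁻¹ * (a ^ n * x * (a ^ n)⁻¹))⁻¹ * x⁻¹ = ⁅x, a ^ n⁆ by
      rw [commutatorElement_def]; group] at h2
  have hd : disp s H' = H' := map_injective G.subtype_injective (by
    rw [map_subgroupOf_eq_of_le hHG]; exact le_antisymm hDH hHD)
  rw [layer_map_le_iff]
  intro K hK x hx
  have h1 : CompIn (K.subgroupOf G) H' := ⟨fun y hy => hK.1 hy, by
    have h2 := Components.component_map_equiv (subgroupOfEquivOfLe hHG).symm hK.2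
    convert h2 using 1
    ext y
    constructor
    · intro hy; exact ⟨⟨y, y.2⟩, hy, rfl⟩
    · rintro ⟨z, hz, rfl⟩; exact hz⟩
  exact ⟨⟨x, hHG (hK.1 hx)⟩,
    layer_le_aux hOdd _ G le_rfl r s hC H' hH'i hfix hd _ h1 hx, rfl⟩

end Cfsg.Agent.LayerIn
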