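import Cfsg.Agent.Lib.CoprimeHHS.LayerModule
import Cfsg.Agent.Lib.CoprimeHHS.Faith
import Cfsg.Agent.Lib.Components.FStar
import Cfsg.Agent.Lib.PLocal.FixedPointFree

/-! Components of a subgroup, as subgroups of the whole group; perfect groups modulo solvable ones; invariant
groups with central fixed points are solvable. -/

set_option autoImplicit false
set_option linter.style.haveILetI false
set_option linter.unusedSectionVars false
open scoped commutatorElement
open Subgroup

universe u

namespace Cfsg.Agent.LayerIn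

open CoprimeHHS

variable {G : Type u} [Group G]

/-- `K` is a component of the subgroup `H`. -/
def CompIn (K H : Subgroup G) : Prop := K ≤ H ∧ Cfsg.IsComponent (K.subgroupOf H)

namespace CompIn

variable {K K' H P : Subgroup G}

theorem quasisimple (h : CompIn K H) : Cfsg.IsQuasisimple K :=
  (Components.quasisimple_congr (subgroupOfEquivOfLe h.1)).1 h.2.2

theorem commutator_eq (h : CompIn K H) : ⁅K, K⁆ = K :=
  Components.quasisimple_commutator_eq h.quasisimple

theorem not_solvable (h : CompIn K H) : ¬ Group.IsSolvable K :=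
  Components.quasisimple_not_solvable h.quasisimple

theorem not_le_centralizer (h : CompIn K H) : ¬ K ≤ centralizer (K : Set G) := fun hc =>
  Components.quasisimple_not_commutative h.quasisimple (le_centralizer_iff_isMulCommutative.1 hc)

theorem of_component {M : Subgroup G} {J : Subgroup M} (hJ : Cfsg.IsComponent J) :
    CompIn (J.map M.subtype) M := by
  refine ⟨map_subtype_le J, ?_⟩
  rwa [subgroupOf, comap_map_eq_self_of_injective M.subtype_injective]

/-- A component of `H` lying in a smaller subgroup is a component of it. -/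
theorem restrict (h : CompIn K H) (hKP : K ≤ P) (hPH : P ≤ H) : CompIn K P := by
  refine ⟨hKP, ?_⟩
  have h1 := Components.component_map_equiv (subgroupOfEquivOfLe hPH)
    (Components.component_subgroupOf h.2 (H := P.subgroupOf H) fun x hx => hKP hx)
  convert h1 using 1
  ext x
  constructor
  · intro hx
    exact ⟨⟨⟨x, hPH x.2⟩, x.2⟩, hx, rfl⟩
  · rintro ⟨y, hy, rfl⟩
    exact hy

/-- Images under maps inducing an automorphism of `H`. -/
theorem map_aut (h : CompIn K H) (e : MulAut H) (f : G →* G) (he : ∀ x : H, (e x : G) = f x) :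
    CompIn (K.map f) H := by
  refine ⟨?_, ?_⟩
  · rintro _ ⟨x, hx, rfl⟩
    exact he ⟨x, h.1 hx⟩ ▸ (e ⟨x, h.1 hx⟩).2
  · have h1 := Components.component_map_equiv e h.2
    convert h1 using 1
    ext x
    constructor
    · rintro ⟨y, hy, hyx⟩
      exact ⟨⟨y, h.1 hy⟩, hy, Subtype.ext ((he _).trans hyx)⟩
    · rintro ⟨y, hy, rfl⟩
      exact ⟨y, hy, (he y).symm⟩

theorem conj (h : CompIn K H) {g : G} (hg : g ∈ normalizer (H : Set G)) :
    CompIn (K.map (MulAut.conj g).toMonoidHom) H :=
  h.map_aut (H.normalizerMonoidHom ⟨g, hg⟩) _ fun _ => rfl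

theorem commute [Finite G] (h : CompIn K H) (h' : CompIn K' H) (hne : K ≠ K') : ⁅K, K'⁆ = ⊥ := by
  have h1 := Components.components_commute h.2 h'.2 fun e => hne (by
    rw [← map_subgroupOf_eq_of_le h.1, e, map_subgroupOf_eq_of_le h'.1])
  have h2 := congrArg (Subgroup.map H.subtype) h1
  rwa [Subgroup.map_commutator, map_subgroupOf_eq_of_le h.1, map_subgroupOf_eq_of_le h'.1,
    Subgroup.map_bot] at h2

theorem le_or_commute [Finite G] (h : CompIn K H) {N : Subgroup G} (hN : N ≤ H)
    (hHN : H ≤ normalizer (N : Set G)) : K ≤ N ∨ ⁅K, N⁆ = ⊥ := by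
  haveI : (N.subgroupOf H).Normal := (normal_subgroupOf_iff_le_normalizer hN).2 hHN
  rcases Components.component_le_or_commute h.2 (Subgroup.Normal.isSubnormal (H := N.subgroupOf H) inferInstance)
    with e | e
  · exact Or.inl fun x hx => e (show (⟨x, h.1 hx⟩ : H) ∈ K.subgroupOf H from hx)
  · refine Or.inr ?_
    have h2 := congrArg (Subgroup.map H.subtype) e
    rwa [Subgroup.map_commutator, map_subgroupOf_eq_of_le h.1, map_subgroupOf_eq_of_le hN,
      Subgroup.map_bot] at h2

/-- Each component normalises each component. -/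
theorem le_normalizer [Finite G] (h : CompIn K H) (h' : CompIn K' H) : K' ≤ normalizer (K : Set G) := by
  rcases eq_or_ne K' K with rfl | hne
  · exact Subgroup.le_normalizer
  · exact Components.normalizes_of_commute (h'.commute h hne)

end CompIn

/-- The layer of a subgroup is the join of its components. -/
theorem layer_map_le_iff {H X : Subgroup G} :
    (Cfsg.layer H).map H.subtype ≤ X ↔ ∀ K, CompIn K H → K ≤ X := by
  rw [map_le_iff_le_comap, Components.layer_le_iff]
  constructor
  · intro h K hK x hx
    exact h _ hK.2 (show (⟨x, hK.1 hx⟩ : H) ∈ K.subgroupOf H from hx)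
  · intro h J hJ x hx
    exact h _ (CompIn.of_component hJ) ⟨x, hx, rfl⟩

/-- A quasisimple subgroup lies in, or centralises, a subgroup it normalises and is normalised by. -/
theorem qs_le_or_commute {K D : Subgroup G} (hq : Cfsg.IsQuasisimple K) (hKD : K ≤ normalizer (D : Set G))
    (hDK : D ≤ normalizer (K : Set G)) : K ≤ D ∨ ⁅D, K⁆ = ⊥ := by
  haveI : (D.subgroupOf K).Normal := by
    refine ⟨fun n hn g => ?_⟩
    exact ((mem_normalizer_iff.1 (hKD g.2)) n).1 hn
  rcases Components.quasisimple_normal hq (D.subgroupOf K) with e | e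
  · exact Or.inl (subgroupOf_eq_top.1 e)
  · refine Or.inr ?_
    have hE : ⁅K, K⁆ = K := Components.quasisimple_commutator_eq hq
    have h1 : ⁅D, K⁆ ≤ centralizer (K : Set G) := fun x hx => by
      have h2 := Components.commutator_le_inf_of_normalizer hKD hDK hx
      refine mem_centralizer_iff.2 fun k hk => ?_
      exact congrArg Subtype.val (mem_center_iff.1 (e (show (⟨x, h2.2⟩ : K) ∈ D.subgroupOf K from h2.1)) ⟨k, hk⟩)
    have h3 : ⁅⁅D, K⁆, K⁆ = ⊥ := commutator_eq_bot_iff_le_centralizer.2 h1
    have h4 : ⁅⁅K, D⁆, K⁆ = ⊥ := by rwa [commutator_comm K D]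
    have := commutator_commutator_eq_bot_of_rotate (H₁ := K) (H₂ := K) (H₃ := D) h4 h3
    rwa [hE, commutator_comm] at this

/-- A perfect group inside `A J` with `A` solvable and normalising `J` lies in `J`. -/
theorem le_of_solvable_mod {P A J : Subgroup G} (hP : ⁅P, P⁆ = P) (hA : Group.IsSolvable A)
    (hAJ : A ≤ normalizer (J : Set G)) (h : P ≤ A ⊔ J) : P ≤ J := by
  set Y := A ⊔ J
  haveI : (J.subgroupOf Y).Normal :=
    (normal_subgroupOf_iff_le_normalizer le_sup_right).2 (sup_le hAJ Subgroup.le_normalizer)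
  let f : A →* Y ⧸ J.subgroupOf Y := (QuotientGroup.mk' _).comp (inclusion le_sup_left)
  have hf : Function.Surjective f := fun q => by
    obtain ⟨⟨y, hy⟩, rfl⟩ := QuotientGroup.mk_surjective q
    obtain ⟨a, ha, j, hj, rfl⟩ := (SolvBasic.mem_sup_iff_of_le_normalizer hAJ).1
      (show y ∈ J ⊔ A by rwa [sup_comm])
    refine ⟨⟨j, hj⟩, QuotientGroup.eq.2 ?_⟩
    show j⁻¹ * (a * j) ∈ J
    rw [← mul_assoc]
    exact (mem_normalizer_iff''.1 (hAJ hj) a).1 ha
  haveI := Group.isSolvable_of_surjective hf
  have h1 : (P.subgroupOf Y).map (QuotientGroup.mk' (J.subgroupOf Y)) = ⊥ := by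
    refine eq_bot_of_perfect ?_ inferInstance
    rw [← Subgroup.map_commutator]
    congr 1
    apply map_injective Y.subtype_injective
    rw [Subgroup.map_commutator, map_subgroupOf_eq_of_le h, hP]
  rw [Subgroup.map_eq_bot_iff, QuotientGroup.ker_mk'] at h1
  exact fun x hx => h1 (show (⟨x, h hx⟩ : Y) ∈ P.subgroupOf Y from hx)

variable [Finite G] {r : ℕ} {s : MulAut G}

/-- An invariant subgroup whose fixed points are central in it is solvable. -/
theorem solvable_of_fixed_central (hC : Cop r s) {A : Subgroup G} (hA : Inv s A)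
    (h : A ⊓ fixed s ≤ centralizer (A : Set G)) : Group.IsSolvable A := by
  set Z := center A with hZ
  have hZi : Inv hA.aut Z := fun x hx =>
    (characteristic_iff_map_eq.1 (inferInstance : Z.Characteristic) hA.aut).le ⟨x, hx, rfl⟩
  have hC' := (hC.sub hA).quot hZi
  have hfpf : ∀ q, hZi.qAut q = q → q = 1 := fun q hq => by
    obtain ⟨c, hc, rfl⟩ := (hC.sub hA).exists_fixed_mk hZi hq
    refine (QuotientGroup.eq_one_iff c).2 (mem_center_iff.2 fun a => Subtype.ext ?_)
    exact mem_centralizer_iff.1 (h ⟨c.2, congrArg Subtype.val hc⟩) a a.2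
  haveI : Group.IsNilpotent (A ⧸ Z) := FixedPointFreeThompson.isNilpotent _ hC'.prime hC'.pow_eq hfpf
  haveI : Group.IsSolvable Z := Group.isSolvable_of_comm fun a b => mul_comm' a b
  exact Group.isSolvable_of_ker_le_range Z.subtype (QuotientGroup.mk' Z) (by simp)

/-- A quasisimple invariant subgroup has a noncentral fixed element. -/
theorem exists_fixed_noncentral (hC : Cop r s) {L : Subgroup G} (hq : Cfsg.IsQuasisimple L) (hL : Inv s L) :
    ¬ L ⊓ fixed s ≤ centralizer (L : Set G) := fun h =>
  Components.quasisimple_not_solvable hq (solvable_of_fixed_central hC hL h)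

end Cfsg.Agent.LayerIn
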