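import Cfsg.Agent.Lib.CoprimeHHS.LayerOrbit
import Cfsg.Agent.Lib.OddDown.AutFix
import Cfsg.Agent.Lib.Transfer.Basic

/-! An invariant perfect subgroup `P = [P,s]` centralising the fixed points in the layer centralises the
invariant components (modulo the odd order theorem). -/

set_option autoImplicit false
set_option linter.style.haveILetI false
set_option linter.unusedSectionVars false
open scoped commutatorElement
open Subgroup

universe u

namespace Cfsg.Agent.LayerIn

open CoprimeHHS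

variable {G : Type u} [Group G]

/-- The statement for proper invariant subgroups. -/
def LayerIH (s : MulAut G) : Prop :=
  ∀ M : Subgroup G, M ≠ ⊤ → Inv s M → ∀ H : Subgroup G, H ≤ M → Inv s H →
    M ⊓ fixed s ≤ normalizer (H : Set G) → disp s H = H →
    ∀ K, CompIn K H → ∀ X : Subgroup G, (∀ J, CompIn J M → J ≤ X) → K ≤ X

/-- A join of a family closed under `s` is invariant. -/
theorem inv_sSup {s : MulAut G} {A : Set (Subgroup G)} (h : ∀ J ∈ A, J.map s.toMonoidHom ∈ A) :
    Inv s (sSup A) := fun x hx =>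
  (sSup_le (fun J hJ => map_le_iff_le_comap.1 (le_sSup (h J hJ))) : sSup A ≤ (sSup A).comap s.toMonoidHom) hx

variable [Finite G] {r : ℕ} {s : MulAut G}

theorem CompIn.map_s {K M : Subgroup G} (h : CompIn K M) (hM : Inv s M) : CompIn (K.map s.toMonoidHom) M :=
  h.map_aut hM.aut _ fun _ => rfl

theorem map_s_le_iff {K L : Subgroup G} (hL : Inv s L) : K.map s.toMonoidHom ≤ L ↔ K ≤ L :=
  ⟨fun h x hx => hL.symm_mem (h ⟨x, hx, rfl⟩), fun h => by rintro _ ⟨x, hx, rfl⟩; exact hL _ (h hx)⟩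

/-- A perfect invariant subgroup covering a perfect group modulo a normalised subgroup. -/
theorem exists_perfect_cover {T L P : Subgroup G} (hTL : T ≤ normalizer (L : Set G)) (hTi : Inv s T)
    (hP : ⁅P, P⁆ = P) (h : P ≤ L ⊔ T) :
    ∃ E ≤ T, T ≤ normalizer (E : Set G) ∧ Inv s E ∧ ⁅E, E⁆ = E ∧ P ≤ L ⊔ E := by
  obtain ⟨E, ⟨hET, hTE, hEi, hPE⟩, hmin⟩ :=
    (Set.toFinite {X : Subgroup G | X ≤ T ∧ T ≤ normalizer (X : Set G) ∧ Inv s X ∧ P ≤ L ⊔ X}).exists_minimal
      ⟨T, le_rfl, Subgroup.le_normalizer, hTi, h⟩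
  refine ⟨E, hET, hTE, hEi, le_antisymm (commutator_le_self E) (hmin ⟨?_, ?_, ?_, ?_⟩ (commutator_le_self E)), hPE⟩
  · exact (commutator_le_self E).trans hET
  · intro t ht
    refine mem_normalizer_of_map_eq ?_
    rw [Subgroup.map_commutator, map_conj_of_mem_normalizer (hTE ht)]
  · refine fun x hx => (?_ : ⁅E, E⁆.map s.toMonoidHom ≤ ⁅E, E⁆) ⟨x, hx, rfl⟩
    rw [Subgroup.map_commutator, hEi.map_eq]
  · set Y := normalizer (L : Set G) with hY
    haveI : (L.subgroupOf Y).Normal := (normal_subgroupOf_iff_le_normalizer Subgroup.le_normalizer).2 le_rfl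
    have hEY : E ≤ Y := hET.trans hTL
    have hPY : P ≤ Y := hPE.trans (sup_le Subgroup.le_normalizer hEY)
    set f := QuotientGroup.mk' (L.subgroupOf Y)
    have h1 : (P.subgroupOf Y).map f ≤ (E.subgroupOf Y).map f := by
      rintro _ ⟨⟨p, hp⟩, hpP, rfl⟩
      obtain ⟨l, hl, e, he, hle⟩ := (SolvBasic.mem_sup_iff_of_le_normalizer hEY).1 (hPE hpP)
      refine ⟨⟨e, hEY he⟩, he, QuotientGroup.eq.2 ?_⟩
      show e⁻¹ * p ∈ L
      rw [show p = l * e from hle, ← mul_assoc]
      exact (mem_normalizer_iff''.1 (hEY he) l).1 hl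
    have h2 : ((⁅P, P⁆).subgroupOf Y).map f ≤ ((⁅E, E⁆).subgroupOf Y).map f := by
      have key : ∀ A : Subgroup G, A ≤ Y → (⁅A, A⁆).subgroupOf Y = ⁅A.subgroupOf Y, A.subgroupOf Y⁆ :=
        fun A hA => map_injective Y.subtype_injective (by
          rw [map_subgroupOf_eq_of_le ((commutator_le_self A).trans hA), Subgroup.map_commutator,
            map_subgroupOf_eq_of_le hA])
      rw [key P hPY, key E hEY, Subgroup.map_commutator, Subgroup.map_commutator]
      exact commutator_mono h1 h1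
    rw [hP] at h2
    intro p hp
    obtain ⟨⟨e, he⟩, heE, hef⟩ := h2 ⟨⟨p, hPY hp⟩, hp, rfl⟩
    have h3 : e⁻¹ * p ∈ L := (QuotientGroup.eq (s := L.subgroupOf Y)).1 hef
    have h4 := mem_sup_right (S := L) (show e ∈ ⁅E, E⁆ from heE)
    have h5 := mul_mem h4 (mem_sup_left (T := ⁅E, E⁆) h3)
    rwa [mul_inv_cancel_left] at h5

theorem centralizes_invariant (hOdd : OddChar.OddSolvable.{u}) (hC : Cop r s) (hIH : LayerIH s)
    {P L : Subgroup G} (hP : Inv s P) (hPp : ⁅P, P⁆ = P) (hPdisp : disp s P = P)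
    (hPfix : fixed s ≤ normalizer (P : Set G)) (hPgen : ∀ X : Subgroup G, (∀ K, CompIn K P → K ≤ X) → P ≤ X)
    (hPd : fixed s ⊓ Cfsg.layer G ≤ centralizer (P : Set G)) (hL : Cfsg.IsComponent L) (hLi : Inv s L) :
    L ≤ centralizer (P : Set G) := by
  classical
  haveI := Fact.mk Nat.prime_two
  have hLlay := Components.component_le_layer hL
  have hLns := Components.quasisimple_not_solvable hL.2
  have hPc : ∀ e ∈ P, ∀ c ∈ L, s c = c → e * c = c * e := fun e he c hc hsc =>
    mem_centralizer_iff.1 (hPd ⟨hsc, hLlay hc⟩) e he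
  have hPN : P ≤ normalizer (L : Set G) := by
    intro e he
    refine mem_normalizer_of_map_eq ?_
    by_contra hne
    have h1 := commutator_eq_bot_iff_le_centralizer.1
      (Components.components_commute (Components.component_conj hL e) hL hne)
    refine exists_fixed_noncentral hC hL.2 hLi fun c hc => h1 ⟨c, hc.1, ?_⟩
    show e * c * e⁻¹ = c
    rw [hPc e he c hc.1 hc.2, mul_inv_cancel_right]
  set W := L ⊔ P with hWdef
  have hWN : W ≤ normalizer (L : Set G) := sup_le Subgroup.le_normalizer hPN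
  have hWi : Inv s W := hLi.sup hP
  obtain ⟨S, -, hSL, hSi, hSp, hScard⟩ := hC.exists_sylow_ge 2 hLi (bot_le : (⊥ : Subgroup G) ≤ L)
    IsPGroup.of_bot Inv.bot
  have hcover : P ≤ L ⊔ (W ⊓ centralizer (S : Set G)) := by
    by_cases hI : S ⊓ fixed s ≤ centralizer (L : Set G)
    · set N := W ⊓ normalizer (S : Set G) with hNdef
      have hNi : Inv s N := hWi.inf hSi.normalizer
      set T := disp s N with hTdef
      have hTN : T ≤ N := disp_le hNi
      have hfrat : ∀ g ∈ W, ∃ l ∈ L, ∃ n ∈ N, g = l * n := by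
        intro g hg
        set Sg := S.map (MulAut.conj g).toMonoidHom with hSg
        have hSgL : Sg ≤ L := by
          rintro _ ⟨x, hx, rfl⟩
          exact (mem_normalizer_iff.1 (hWN hg) x).1 (hSL hx)
        have hc2 : Nat.card Sg = Nat.card S := card_map_of_injective (MulAut.conj g).injective
        let S₁ : Sylow 2 L := Sylow.ofCard (S.subgroupOf L) (by
          rw [Nat.card_congr (subgroupOfEquivOfLe hSL).toEquiv, hScard])
        let S₂ : Sylow 2 L := Sylow.ofCard (Sg.subgroupOf L) (by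
          rw [Nat.card_congr (subgroupOfEquivOfLe hSgL).toEquiv, hc2, hScard])
        obtain ⟨l, hl⟩ := MulAction.exists_smul_eq L S₁ S₂
        refine ⟨l, l.2, (l : G)⁻¹ * g, ⟨W.mul_mem (W.inv_mem (mem_sup_left l.2)) hg, ?_⟩, by group⟩
        refine mem_normalizer_fintype fun x hx => ?_
        have h1 : (⟨g * x * g⁻¹, hSgL ⟨x, hx, rfl⟩⟩ : L) ∈ (l • S₁ : Sylow 2 L) := by
          rw [hl]
          exact (show (⟨g * x * g⁻¹, hSgL ⟨x, hx, rfl⟩⟩ : L) ∈ Sg.subgroupOf L from ⟨x, hx, rfl⟩)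
        rw [Sylow.smul_def] at h1
        obtain ⟨y, hy, hye⟩ := h1
        have h2 : (l : G) * (y : G) * (l : G)⁻¹ = g * x * g⁻¹ := congrArg Subtype.val hye
        have h3 : ((l : G)⁻¹ * g) * x * ((l : G)⁻¹ * g)⁻¹ = (y : G) := by
          rw [mul_inv_rev, inv_inv, show (l : G)⁻¹ * g * x * (g⁻¹ * l) = (l : G)⁻¹ * (g * x * g⁻¹) * l by group,
            ← h2]
          group
        rw [h3]
        exact hy
      have hPT : P ≤ L ⊔ T := by
        rw [← hPdisp, disp, Subgroup.closure_le]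
        rintro _ ⟨p, hp, rfl⟩
        obtain ⟨l, hl, n, hn, rfl⟩ := hfrat p (mem_sup_right hp)
        show (l * n)⁻¹ * s (l * n) ∈ L ⊔ T
        rw [map_mul, show (l * n)⁻¹ * (s l * s n) = n⁻¹ * (l⁻¹ * s l) * n * (n⁻¹ * s n) by group]
        exact mul_mem (mem_sup_left ((mem_normalizer_iff''.1 (hWN hn.1) _).1 (mul_mem (inv_mem hl) (hLi l hl))))
          (mem_sup_right (disp_mem hn))
      obtain ⟨E, hET, hTE, hEi, hEp, hPE⟩ :=
        exists_perfect_cover (s := s) ((hTN.trans inf_le_left).trans hWN) (inv_disp hNi) hPp hPT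
      refine hPE.trans (sup_le le_sup_left (le_sup_of_le_right (le_inf (hET.trans (hTN.trans inf_le_left)) ?_)))
      rw [le_centralizer_iff]
      refine centralizes hC (inv_disp hNi) (hC.disp_disp hNi) hEi hEp hET hTE 2 hSp hSi
        (hTN.trans inf_le_right) ?_
      rintro c ⟨hcS, hcf⟩
      have hcW : W ≤ centralizer ({c} : Set G) := by
        refine sup_le (fun l hl => ?_) fun p hp => ?_
        · exact mem_centralizer_singleton_iff.2 (mem_centralizer_iff.1 (hI ⟨hcS, hcf⟩) l hl)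
        · exact mem_centralizer_singleton_iff.2 (hPc p hp c (hSL hcS) hcf)
      exact mem_centralizer_iff.2 fun e he => mem_centralizer_singleton_iff.1
        (hcW ((hET.trans (hTN.trans inf_le_left)) he))
    · refine le_sup_of_le_right (le_inf le_sup_right ?_)
      rw [le_centralizer_iff]
      set Θ := S ⊓ centralizer (P : Set G) with hΘdef
      have hΘi : Inv s Θ := hSi.inf hP.centralizer
      have hΘL : ¬ Θ ≤ centralizer (L : Set G) := fun h => hI fun c hc =>
        h ⟨hc.1, mem_centralizer_iff.2 fun e he => hPc e he c (hSL hc.1) hc.2⟩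
      set M := normalizer (Θ : Set G) with hMdef
      have hMne : M ≠ ⊤ := fun e => by
        haveI : Θ.Normal := normalizer_eq_top_iff.1 e
        rcases Components.component_le_or_commute hL (Subgroup.Normal.isSubnormal (H := Θ) inferInstance) with h | h
        · haveI := hSp.isNilpotent
          haveI : Group.IsSolvable S := inferInstance
          exact hLns (Components.isSolvable_mono (h.trans inf_le_left))
        · exact hΘL (le_centralizer_iff.1 (commutator_eq_bot_iff_le_centralizer.1 h))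
      have hMi : Inv s M := hΘi.normalizer
      have hPM : P ≤ M := fun e he => centralizer_le_normalizer _
        (mem_centralizer_iff.2 fun x hx => (mem_centralizer_iff.1 hx.2 e he).symm)
      have hMN : M ≤ normalizer (L : Set G) := fun g hg => by
        refine mem_normalizer_of_map_eq ?_
        by_contra hne
        have h1 := commutator_eq_bot_iff_le_centralizer.1
          (Components.components_commute (Components.component_conj hL g) hL hne)
        refine hΘL fun x hx => h1 ⟨g⁻¹ * x * g, hSL ((mem_normalizer_iff''.1 hg x).1 hx).1, ?_⟩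
        show g * (g⁻¹ * x * g) * g⁻¹ = x
        group
      set D := L ⊓ M with hDdef
      have hMD : M ≤ normalizer (D : Set G) :=
        (le_inf hMN Subgroup.le_normalizer).trans inf_normalizer_le_normalizer_inf
      set JL := sSup {J | CompIn J M ∧ J ≤ L} with hJL
      set J' := sSup {J | CompIn J M ∧ ¬ J ≤ L} with hJ'
      have hJLD : JL ≤ D := sSup_le fun J hJ => le_inf hJ.2 hJ.1.1
      have hJ'D : J' ≤ centralizer (D : Set G) := sSup_le fun J hJ =>
        commutator_eq_bot_iff_le_centralizer.1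
          ((hJ.1.le_or_commute inf_le_right hMD).resolve_left fun h => hJ.2 (h.trans inf_le_left))
      have hJLi : Inv s JL := inv_sSup fun J hJ => ⟨hJ.1.map_s hMi, (map_s_le_iff hLi).2 hJ.2⟩
      have hJ'i : Inv s J' := inv_sSup fun J hJ => ⟨hJ.1.map_s hMi, fun h => hJ.2 ((map_s_le_iff hLi).1 h)⟩
      have hPJ : P ≤ JL ⊔ J' := hPgen _ fun K hK => hIH M hMne hMi P hPM hP (inf_le_right.trans hPfix)
        hPdisp K hK _ fun J hJ => by
          by_cases hJl : J ≤ L
          · exact le_sup_of_le_left (le_sSup ⟨hJ, hJl⟩)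
          · exact le_sup_of_le_right (le_sSup ⟨hJ, hJl⟩)
      have hJLJ' : JL ≤ normalizer (J' : Set G) := fun a ha => centralizer_le_normalizer _
        (mem_centralizer_iff.2 fun b hb => (mem_centralizer_iff.1 (hJ'D hb) a (hJLD ha)).symm)
      set A := (P ⊔ J') ⊓ JL with hAdef
      have hPA : P ≤ A ⊔ J' := by
        intro p hp
        obtain ⟨b, hb, a, ha, rfl⟩ := (SolvBasic.mem_sup_iff_of_le_normalizer hJLJ').1
          (show p ∈ J' ⊔ JL by rw [sup_comm]; exact hPJ hp)
        refine mul_mem (mem_sup_right hb) (mem_sup_left ⟨?_, ha⟩)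
        have h1 := mul_mem (inv_mem (mem_sup_right (S := P) hb)) (mem_sup_left (T := J') hp)
        rwa [inv_mul_cancel_left] at h1
      have hAs : Group.IsSolvable A := solvable_of_fixed_central hC ((hP.sup hJ'i).inf hJLi) (by
        rintro c ⟨⟨-, hcJ⟩, hcf⟩
        have hsub : P ⊔ J' ≤ centralizer ({c} : Set G) := sup_le
          (fun e he => mem_centralizer_singleton_iff.2 (hPc e he c (hJLD hcJ).1 hcf))
          (fun b hb => mem_centralizer_singleton_iff.2 (mem_centralizer_iff.1 (hJ'D hb) c (hJLD hcJ)).symm)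
        exact mem_centralizer_iff.2 fun a ha => mem_centralizer_singleton_iff.1 (hsub ha.1))
      have hPJ' : P ≤ J' := le_of_solvable_mod hPp hAs (inf_le_right.trans hJLJ') hPA
      have hDP : D ≤ centralizer (P : Set G) := le_centralizer_iff.1 (hPJ'.trans hJ'D)
      by_contra hne
      have hlt : Θ.subgroupOf S < ⊤ := lt_top_iff_ne_top.2 fun e => hne fun x hx =>
        ((e ▸ mem_top (⟨x, hx⟩ : S) : (⟨x, hx⟩ : S) ∈ Θ.subgroupOf S) : x ∈ Θ).2
      haveI := hSp.isNilpotent
      obtain ⟨⟨x, hxS⟩, hxN, hxΘ⟩ := SetLike.exists_of_lt (Group.normalizerCondition_of_isNilpotent _ hlt)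
      refine hxΘ (show x ∈ Θ from ⟨hxS, hDP ⟨hSL hxS, ?_⟩⟩)
      exact mem_normalizer_fintype fun y hy => (mem_normalizer_iff.1 hxN ⟨y, hy.1⟩).1 hy
  -- the action on the simple quotient
  haveI := hL.2.2
  set Z := center L with hZdef
  let qL : L →* L ⧸ Z := QuotientGroup.mk' Z
  haveI hZs : Group.IsSolvable Z := Group.isSolvable_of_comm fun a b => mul_comm' a b
  have hLbar : ¬ Group.IsSolvable (L ⧸ Z) := fun h => by
    haveI := h
    exact hLns (Group.isSolvable_of_ker_le_range Z.subtype (QuotientGroup.mk' Z) (by simp))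
  have hO : ∀ N : Subgroup (L ⧸ Z), N.Normal → Odd (Nat.card N) → N = ⊥ := fun N hN hodd =>
    hN.eq_bot_or_eq_top.resolve_right fun e => hLbar (hOdd _ (by rw [e, card_top] at hodd; exact hodd))
  let Sb : Sylow 2 (L ⧸ Z) := (Sylow.ofCard (S.subgroupOf L) (by
    rw [Nat.card_congr (subgroupOfEquivOfLe hSL).toEquiv, hScard])).mapSurjective (QuotientGroup.mk'_surjective Z)
  let C : Subgroup (MulAut (L ⧸ Z)) :=
    { carrier := {φ | ∀ x : L ⧸ Z, x ∈ Sb → φ x = x}
      one_mem' := fun x _ => rfl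
      mul_mem' := fun {a b} ha hb x hx => by rw [MulAut.mul_apply, hb x hx, ha x hx]
      inv_mem' := fun {a} ha x hx => by
        conv_lhs => rw [← ha x hx]
        exact MulEquiv.symm_apply_apply a x }
  haveI : Finite (MulAut (L ⧸ Z)) := Finite.of_injective _ MulEquiv.toEquiv_injective
  have hCsol : Group.IsSolvable C := (OddDown.aut_fix_sylow hOdd hO Sb C (fun φ => Iff.rfl)).2
  let ψ : W →* MulAut (L ⧸ Z) := (quotAut Z).comp (L.normalizerMonoidHom.comp (inclusion hWN))
  have hψ : ∀ (w : W) (y : L), ψ w (qL y) = qL (L.normalizerMonoidHom ⟨(w : G), hWN w.2⟩ y) := fun w y => rfl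
  set PW := P.subgroupOf W with hPW
  set Pb := PW.map ψ with hPb
  have hPbp : ⁅Pb, Pb⁆ = Pb := by
    rw [hPb, ← Subgroup.map_commutator]
    congr 1
    apply map_injective W.subtype_injective
    rw [Subgroup.map_commutator, map_subgroupOf_eq_of_le le_sup_right, hPp]
  set Inn := (MulAut.conj : L ⧸ Z →* MulAut (L ⧸ Z)).range with hInn
  have hInnN : ∀ φ : MulAut (L ⧸ Z), φ ∈ normalizer (Inn : Set (MulAut (L ⧸ Z))) := fun φ => by
    refine mem_normalizer_fintype ?_
    rintro _ ⟨a, rfl⟩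
    exact ⟨φ a, MulEquiv.ext fun b => by simp⟩
  have hPbC : Pb ≤ C ⊔ Inn := by
    rintro _ ⟨⟨p, hpW⟩, hp, rfl⟩
    obtain ⟨l, hl, c, hc, rfl⟩ := (SolvBasic.mem_sup_iff_of_le_normalizer
      ((inf_le_left : W ⊓ centralizer (S : Set G) ≤ W).trans hWN)).1 (hcover hp)
    rw [show (⟨l * c, hpW⟩ : W) = ⟨l, mem_sup_left hl⟩ * ⟨c, hc.1⟩ from rfl, map_mul]
    refine mul_mem (mem_sup_right ⟨qL ⟨l, hl⟩, MulEquiv.ext fun x => ?_⟩) (mem_sup_left ?_)
    · obtain ⟨y, rfl⟩ := QuotientGroup.mk'_surjective Z x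
      rfl
    · intro x hx
      obtain ⟨y, hy, rfl⟩ := hx
      change ψ ⟨c, hc.1⟩ (qL y) = qL y
      rw [hψ]
      congr 1
      exact Subtype.ext (mul_inv_eq_iff_eq_mul.2 (mem_centralizer_iff.1 hc.2 y hy).symm)
  have hPbI : Pb ≤ Inn := le_of_solvable_mod hPbp hCsol (fun φ _ => hInnN φ) hPbC
  set Ab := Pb.comap (MulAut.conj : L ⧸ Z →* MulAut (L ⧸ Z)) with hAb
  have hZi : Inv hLi.aut Z := fun x hx =>
    (characteristic_iff_map_eq.1 (inferInstance : Z.Characteristic) hLi.aut).le ⟨x, hx, rfl⟩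
  have hAbi : Inv hZi.qAut Ab := by
    rintro a ⟨⟨p, hpW⟩, hp, hpa⟩
    refine ⟨⟨s p, hWi p hpW⟩, hP p hp, MulEquiv.ext fun x => ?_⟩
    obtain ⟨y, rfl⟩ := hZi.qAut.surjective x
    obtain ⟨y, rfl⟩ := QuotientGroup.mk'_surjective Z y
    have h1 : ψ ⟨p, hpW⟩ (qL y) = a * qL y * a⁻¹ := DFunLike.congr_fun hpa _
    show ψ ⟨s p, hWi p hpW⟩ (qL (hLi.aut y)) = hZi.qAut a * hZi.qAut (qL y) * (hZi.qAut a)⁻¹
    rw [← map_inv, ← map_mul, ← map_mul, ← h1, hψ, hψ]
    refine congrArg qL (Subtype.ext ?_)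
    show s p * s (y : G) * (s p)⁻¹ = s (p * (y : G) * p⁻¹)
    rw [map_mul, map_mul, map_inv]
  have hAbs : Group.IsSolvable Ab := solvable_of_fixed_central ((hC.sub hLi).quot hZi) hAbi (by
    rintro a ⟨-, haf⟩
    obtain ⟨c, hc, rfl⟩ := (hC.sub hLi).exists_fixed_mk hZi haf
    refine mem_centralizer_iff.2 fun b hb => ?_
    obtain ⟨⟨p, hpW⟩, hp, hpb⟩ := hb
    have h1 : ψ ⟨p, hpW⟩ (qL c) = b * qL c * b⁻¹ := DFunLike.congr_fun hpb _
    rw [hψ] at h1
    have h2 : L.normalizerMonoidHom ⟨p, hWN hpW⟩ c = c := Subtype.ext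
      (mul_inv_eq_iff_eq_mul.2 (hPc p hp c c.2 (congrArg Subtype.val hc)))
    rw [h2] at h1
    exact mul_inv_eq_iff_eq_mul.1 h1.symm)
  have hPb0 : Pb = ⊥ := by
    refine eq_bot_of_perfect hPbp ?_
    haveI := hAbs
    haveI := Components.isSolvable_map (MulAut.conj : L ⧸ Z →* MulAut (L ⧸ Z)) Ab
    exact Components.isSolvable_mono (show Pb ≤ Ab.map (MulAut.conj : L ⧸ Z →* MulAut (L ⧸ Z)) by
      rw [hAb, map_comap_eq]; exact le_inf hPbI le_rfl)
  have h4 : ⁅⁅P, L⁆, L⁆ = ⊥ := by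
    refine commutator_eq_bot_iff_le_centralizer.2 (commutator_le.2 fun p hp y hy => ?_)
    have h1 : ψ ⟨p, mem_sup_right hp⟩ = 1 :=
      (Subgroup.mem_bot).1 (hPb0.le ⟨⟨p, mem_sup_right hp⟩, hp, rfl⟩)
    have h2 := DFunLike.congr_fun h1 (qL ⟨y, hy⟩)
    rw [hψ, MulAut.one_apply] at h2
    have h3 : qL (L.normalizerMonoidHom ⟨p, hWN (mem_sup_right hp)⟩ ⟨y, hy⟩ * (⟨y, hy⟩ : L)⁻¹) = 1 := by
      rw [map_mul, h2, map_inv, mul_inv_cancel]
    have h6 := (QuotientGroup.eq_one_iff _).1 h3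
    exact mem_centralizer_iff.2 fun z hz => congrArg Subtype.val (mem_center_iff.1 h6 ⟨z, hz⟩)
  have h5 := commute_of_double (Components.component_commutator_eq hL) h4
  rw [commutator_comm] at h5
  exact commutator_eq_bot_iff_le_centralizer.1 h5

end Cfsg.Agent.LayerIn
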