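import Cfsg.Agent.Lib.CoprimeHHS.LayerInvComp

/-! Flavell's theorem: the components of an invariant subgroup `H = [H,s]` normalised by the fixed points
lie in the layer (modulo the odd order theorem). -/

set_option autoImplicit false
set_option linter.style.haveILetI false
set_option linter.unusedSectionVars false
open scoped commutatorElement
open Subgroup

universe u

namespace Cfsg.Agent.LayerIn

open CoprimeHHS

variable {G : Type u} [Group G] [Finite G] {r : ℕ} {s : MulAut G}

/-- The layer of `H` centralises the Fitting subgroup. -/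
theorem layer_centralizes_fitting (hC : Cop r s) {H : Subgroup G} (hH : Inv s H)
    (hfix : fixed s ≤ normalizer (H : Set G)) (hd : disp s H = H) :
    (Cfsg.layer H).map H.subtype ≤ centralizer (Cfsg.fittingSubgroup G : Set G) := by
  classical
  set EH := (Cfsg.layer H).map H.subtype with hEH
  have hEHH : EH ≤ H := map_subtype_le _
  have hchar : ∀ (e : MulAut H), ∀ y ∈ Cfsg.layer H, e y ∈ Cfsg.layer H := fun e y hy =>
    (Components.layer_map_equiv e).le ⟨y, hy, rfl⟩
  have hEi : Inv s EH := by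
    rintro _ ⟨y, hy, rfl⟩
    exact ⟨hH.aut y, hchar _ y hy, rfl⟩
  have hEN : normalizer (H : Set G) ≤ normalizer (EH : Set G) := fun x hx => by
    refine mem_normalizer_fintype ?_
    rintro _ ⟨y, hy, rfl⟩
    exact ⟨H.normalizerMonoidHom ⟨x, hx⟩ y, hchar _ y hy, rfl⟩
  have hEp : ⁅EH, EH⁆ = EH := by rw [hEH, ← Subgroup.map_commutator, Components.layer_commutator_eq]
  set F := Cfsg.fittingSubgroup G with hF
  haveI hFn : F.Normal := Components.fittingSubgroup_normal
  haveI : Group.IsNilpotent F := Components.fittingSubgroup_nilpotent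
  have hFc : F.Characteristic := Components.fittingSubgroup_characteristic
  have hFi : Inv s F := fun x hx => (characteristic_iff_map_eq.1 hFc s).le ⟨x, hx, rfl⟩
  set S := (centralizer (EH : Set G)).subgroupOf F with hS
  have hsyl : ∀ (q : ℕ) [Fact q.Prime] (Q : Sylow q F), (Q : Subgroup F) ≤ S := by
    intro q _ Q
    haveI : (Q : Subgroup F).Normal := Sylow.normal_of_normalizerCondition
      Group.normalizerCondition_of_isNilpotent Q
    haveI hQc : (Q : Subgroup F).Characteristic := Q.characteristic_of_normal inferInstance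
    set Qs := (Q : Subgroup F).map F.subtype with hQs
    have hQn : Qs.Normal := inferInstance
    have hQi : Inv s Qs := by
      rintro _ ⟨y, hy, rfl⟩
      exact ⟨hFi.aut y, (characteristic_iff_map_eq.1 hQc hFi.aut).le ⟨y, hy, rfl⟩, rfl⟩
    have hQp : IsPGroup q Qs := Q.isPGroup'.map _
    have hQN : ∀ X : Subgroup G, X ≤ normalizer (Qs : Set G) := fun X => by
      rw [normalizer_eq_top_iff.2 hQn]; exact le_top
    have hQC : Qs ≤ centralizer (EH : Set G) := by
      refine centralizes hC hH hd hEi hEp hEHH (Subgroup.le_normalizer.trans hEN) q hQp hQi (hQN H) ?_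
      rintro c ⟨hcQ, hcf⟩
      set D := Qs ⊓ EH with hD
      have hDE : ⁅D, EH⁆ = ⊥ := by
        rw [commutator_eq_bot_iff_le_centralizer, le_centralizer_iff, hEH, layer_map_le_iff]
        intro K hK
        have hKE : K ≤ EH := layer_map_le_iff.1 le_rfl K hK
        have hKD : K ≤ normalizer (D : Set G) :=
          (le_inf (hQN K) (hKE.trans Subgroup.le_normalizer)).trans inf_normalizer_le_normalizer_inf
        have hDK : D ≤ normalizer (K : Set G) :=
          inf_le_right.trans (layer_map_le_iff.2 fun K' hK' => hK.le_normalizer hK')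
        rw [le_centralizer_iff]
        refine commutator_eq_bot_iff_le_centralizer.1
          ((qs_le_or_commute hK.quasisimple hKD hDK).resolve_left fun h => hK.not_solvable ?_)
        haveI := hQp.isNilpotent
        haveI : Group.IsSolvable Qs := inferInstance
        exact Components.isSolvable_mono (h.trans inf_le_left)
      have hcD : ⁅zpowers c, EH⁆ ≤ D := by
        refine commutator_le.2 fun a ha e he => ⟨?_, ?_⟩
        · rw [commutatorElement_def, mul_assoc a, mul_assoc a]
          exact mul_mem (zpowers_le.2 hcQ ha) (hQn.conj_mem _ (inv_mem (zpowers_le.2 hcQ ha)) e)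
        · rw [commutatorElement_def]
          exact EH.mul_mem ((mem_normalizer_iff.1 (hEN (zpowers_le.2 (hfix hcf) ha)) e).1 he) (EH.inv_mem he)
      have h1 : ⁅⁅zpowers c, EH⁆, EH⁆ = ⊥ := le_bot_iff.1 (hDE ▸ commutator_mono hcD le_rfl)
      exact commutator_eq_bot_iff_le_centralizer.1 (commute_of_double hEp h1) (mem_zpowers c)
    exact fun x hx => hQC ⟨x, hx, rfl⟩
  have htop : S = ⊤ := by
    refine S.eq_top_of_card_eq (Nat.dvd_antisymm S.card_subgroup_dvd_card ?_)
    refine Nat.dvd_iff_prime_pow_dvd_dvd _ _ |>.2 fun q k hq hqk => ?_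
    haveI := Fact.mk hq
    refine dvd_trans ?_ (Subgroup.card_dvd_of_le (hsyl q (default : Sylow q F)))
    rw [Sylow.card_eq_multiplicity]
    exact pow_dvd_pow _ ((hq.pow_dvd_iff_le_factorization Nat.card_pos.ne').1 hqk)
  rw [le_centralizer_iff]
  exact fun x hx => (htop.ge (mem_top (⟨x, hx⟩ : F)) : (⟨x, hx⟩ : F) ∈ S)

/-- The inductive step. -/
theorem layer_step (hOdd : OddChar.OddSolvable.{u}) (hC : Cop r s) (hIH : LayerIH s) {H : Subgroup G}
    (hH : Inv s H) (hfix : fixed s ≤ normalizer (H : Set G)) (hd : disp s H = H) :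
    ∀ K, CompIn K H → K ≤ Cfsg.layer G := by
  classical
  have hEi : Inv s (Cfsg.layer G) := fun x hx => (Components.layer_map_equiv s).le ⟨x, hx, rfl⟩
  haveI hEn : (Cfsg.layer G).Normal := Components.layer_normal
  set B : Set (Subgroup G) := {K | CompIn K H ∧ ¬ K ≤ Cfsg.layer G ∧ ¬ K ≤ fixed s} with hB
  set P := sSup B with hPdef
  have hPH : P ≤ H := sSup_le fun K hK => hK.1.1
  have hbad : ∀ K ∈ B, ∀ c : G, s c = c → K.map (MulAut.conj c).toMonoidHom ∈ B := by
    intro K hK c hc
    refine ⟨hK.1.conj (hfix hc), fun h => hK.2.1 fun x hx => ?_, fun h => hK.2.2 fun x hx => ?_⟩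
    · have h1 : c * x * c⁻¹ ∈ Cfsg.layer G := h ⟨x, hx, rfl⟩
      have h2 := hEn.conj_mem' _ h1 c
      rwa [show c⁻¹ * (c * x * c⁻¹) * c = x by group] at h2
    · have h1 : c * x * c⁻¹ ∈ fixed s := h ⟨x, hx, rfl⟩
      have h2 := mul_mem (mul_mem (inv_mem (mem_fixed.2 hc)) h1) (mem_fixed.2 hc)
      rwa [show c⁻¹ * (c * x * c⁻¹) * c = x by group] at h2
  have hPi : Inv s P := inv_sSup fun K hK => ⟨hK.1.map_s hH, fun h => hK.2.1 ((map_s_le_iff hEi).1 h),
    fun h => hK.2.2 fun x hx => s.injective (h ⟨x, hx, rfl⟩)⟩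
  have hPfix : fixed s ≤ normalizer (P : Set G) := fun c hc => by
    refine mem_normalizer_fintype fun x hx => ?_
    exact (sSup_le (fun K hK => map_le_iff_le_comap.1 (le_sSup (hbad K hK c hc))) :
      P ≤ P.comap (MulAut.conj c).toMonoidHom) hx
  have hPK : ∀ K, CompIn K H → P ≤ normalizer (K : Set G) := fun K hK =>
    sSup_le fun K' hK' => hK.le_normalizer hK'.1
  have hPp : ⁅P, P⁆ = P := le_antisymm (commutator_le_self P)
    (sSup_le fun K hK => hK.1.commutator_eq.ge.trans (commutator_mono (le_sSup hK) (le_sSup hK)))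
  have hPgen : ∀ X : Subgroup G, (∀ K, CompIn K P → K ≤ X) → P ≤ X := fun X h =>
    sSup_le fun K hK => h K (hK.1.restrict (le_sSup hK) hPH)
  have hPdisp : disp s P = P := by
    refine le_antisymm (disp_le hPi) (sSup_le fun K hK => ?_)
    rcases qs_le_or_commute hK.1.quasisimple ((le_sSup hK).trans (le_normalizer_disp hPi))
      ((disp_le hPi).trans (hPK K hK.1)) with h | h
    · exact h
    exfalso
    have hd' : ∀ x ∈ K, ∀ y ∈ K, y * (x⁻¹ * s x) = x⁻¹ * s x * y := fun x hx y hy =>
      mem_centralizer_iff.1 (commutator_eq_bot_iff_le_centralizer.1 h (disp_mem ((le_sSup hK : K ≤ P) hx))) y hy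
    by_cases hs : K.map s.toMonoidHom = K
    · refine hK.2.2 ?_
      rw [← hK.1.commutator_eq, commutator_le]
      intro x hx y hy
      have hz : ∀ x ∈ K, ∀ w ∈ K, w * (x⁻¹ * s x) = x⁻¹ * s x * w ∧ x⁻¹ * s x ∈ K := fun x hx w hw =>
        ⟨hd' x hx w hw, mul_mem (inv_mem hx) (hs.le ⟨x, hx, rfl⟩)⟩
      obtain ⟨-, hdx⟩ := hz x hx x hx
      set a := x⁻¹ * s x with ha
      set b := y⁻¹ * s y with hb
      have hsx : s x = x * a := by rw [ha, mul_inv_cancel_left]
      have hsy : s y = y * b := by rw [hb, mul_inv_cancel_left]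
      have hab : b * a = a * b := (hd' x hx b (mul_mem (inv_mem hy) (hs.le ⟨y, hy, rfl⟩)))
      show s ⁅x, y⁆ = ⁅x, y⁆
      rw [map_commutatorElement, hsx, hsy, commutatorElement_def, commutatorElement_def]
      have e1 : a * (y * b) = y * b * a := by
        rw [← mul_assoc, ← hd' x hx y hy, mul_assoc, ← hab, ← mul_assoc]
      have e2 : b * x⁻¹ = x⁻¹ * b := (hd' y hy x⁻¹ (inv_mem hx)).symm
      calc x * a * (y * b) * (x * a)⁻¹ * (y * b)⁻¹
          = x * (a * (y * b)) * a⁻¹ * x⁻¹ * b⁻¹ * y⁻¹ := by group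
        _ = x * y * (b * x⁻¹) * b⁻¹ * y⁻¹ := by rw [e1]; group
        _ = x * y * x⁻¹ * y⁻¹ := by rw [e2]; group
    · refine hK.1.not_le_centralizer fun y hy => mem_centralizer_iff.2 fun x hx => ?_
      have h1 := commutator_eq_bot_iff_le_centralizer.1 ((hK.1.map_s hH).commute hK.1 hs) ⟨x, hx, rfl⟩
      have h2 : y * s x = s x * y := mem_centralizer_iff.1 h1 y hy
      have h3 := hd' x hx y hy
      refine (mul_right_cancel (b := x⁻¹ * s x) ?_).symm
      calc y * x * (x⁻¹ * s x) = y * s x := by group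
        _ = s x * y := h2
        _ = x * (x⁻¹ * s x * y) := by group
        _ = x * (y * (x⁻¹ * s x)) := by rw [h3]
        _ = x * y * (x⁻¹ * s x) := by group
  -- `P` centralises the fixed points in the layer
  have hPd : fixed s ⊓ Cfsg.layer G ≤ centralizer (P : Set G) := by
    rintro c ⟨hcf, hcE⟩
    set D := P ⊓ Cfsg.layer G with hD
    have hDP : ⁅D, P⁆ = ⊥ := by
      rw [commutator_eq_bot_iff_le_centralizer, le_centralizer_iff]
      refine sSup_le fun K hK => ?_
      rw [le_centralizer_iff]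
      have hKD : K ≤ normalizer (D : Set G) :=
        (le_inf ((le_sSup hK).trans Subgroup.le_normalizer) (by rw [normalizer_eq_top_iff.2 hEn]; exact le_top)).trans
          inf_normalizer_le_normalizer_inf
      exact commutator_eq_bot_iff_le_centralizer.1
        ((qs_le_or_commute hK.1.quasisimple hKD (inf_le_left.trans (hPK K hK.1))).resolve_left
          fun h => hK.2.1 (h.trans inf_le_right))
    have hcD : ⁅zpowers c, P⁆ ≤ D := by
      refine commutator_le.2 fun a ha e he => ⟨?_, ?_⟩
      · rw [commutatorElement_def]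
        exact P.mul_mem ((mem_normalizer_iff.1 (zpowers_le.2 (hPfix hcf) ha) e).1 he) (P.inv_mem he)
      · rw [commutatorElement_def, mul_assoc a, mul_assoc a]
        exact mul_mem (zpowers_le.2 hcE ha) (hEn.conj_mem _ (inv_mem (zpowers_le.2 hcE ha)) e)
    have h1 : ⁅⁅zpowers c, P⁆, P⁆ = ⊥ := le_bot_iff.1 (hDP ▸ commutator_mono hcD le_rfl)
    exact commutator_eq_bot_iff_le_centralizer.1 (commute_of_double hPp h1) (mem_zpowers c)
  have hPE : Cfsg.layer G ≤ centralizer (P : Set G) := Components.layer_le_iff.2 fun L hL => by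
    by_cases hLi : Inv s L
    · exact centralizes_invariant hOdd hC hIH hPi hPp hPdisp hPfix hPgen hPd hL hLi
    · exact centralizes_moved hC hPi hPd hL hLi
  have hP0 : P = ⊥ := by
    have h1 : P ≤ centralizer (Cfsg.generalizedFittingSubgroup G : Set G) := by
      rw [le_centralizer_iff]
      refine sup_le hPE (le_centralizer_iff.1 (sSup_le fun K hK => ?_))
      exact (layer_map_le_iff.1 le_rfl K hK.1).trans (layer_centralizes_fitting hC hH hfix hd)
    have h2 : P ≤ centralizer (P : Set G) := fun x hx => centralizer_le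
      ((h1.trans Components.centralizer_generalizedFitting_le) : P ≤ _) (h1 hx)
    rw [← hPp, commutator_eq_bot_iff_le_centralizer]
    exact h2
  -- the components fixed by `s`
  intro K0 hK0
  by_contra hK0E
  set B0 : Set (Subgroup G) := {K | CompIn K H ∧ ¬ K ≤ Cfsg.layer G} with hB0
  have hfixB : ∀ K ∈ B0, K ≤ fixed s := fun K hK => by
    by_contra h
    have h1 : K ≤ ⊥ := hP0 ▸ le_sSup (show K ∈ B from ⟨hK.1, hK.2, h⟩)
    exact hK.1.not_le_centralizer (h1.trans bot_le)
  have hP0fix : sSup B0 ≤ fixed s := sSup_le hfixB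
  have hnorm : ∀ h ∈ H, ∀ x ∈ sSup B0, h * x * h⁻¹ ∈ sSup B0 := fun h hh x hx =>
    (sSup_le (fun K hK => map_le_iff_le_comap.1 (le_sSup (show K.map (MulAut.conj h).toMonoidHom ∈ B0 from
      ⟨hK.1.conj (Subgroup.le_normalizer hh), fun e => hK.2 fun y hy => by
        have h2 := hEn.conj_mem' _ (e ⟨y, hy, rfl⟩ : h * y * h⁻¹ ∈ Cfsg.layer G) h
        rwa [show h⁻¹ * (h * y * h⁻¹) * h = y by group] at h2⟩))) :
      sSup B0 ≤ (sSup B0).comap (MulAut.conj h).toMonoidHom) hx
  have hcen : H ≤ centralizer ((sSup B0 : Subgroup G) : Set G) := by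
    rw [← hd, disp, Subgroup.closure_le]
    rintro _ ⟨h, hh, rfl⟩
    refine mem_centralizer_iff.2 fun x hx => ?_
    have h1 : s (h * x * h⁻¹) = h * x * h⁻¹ := hP0fix (hnorm h hh x hx)
    rw [map_mul, map_mul, map_inv, show s x = x from hP0fix hx] at h1
    show x * (h⁻¹ * s h) = h⁻¹ * s h * x
    calc x * (h⁻¹ * s h) = h⁻¹ * (h * x * h⁻¹) * s h := by group
      _ = h⁻¹ * (s h * x * (s h)⁻¹) * s h := by rw [h1]
      _ = h⁻¹ * s h * x := by group
  exact hK0.not_le_centralizer (hK0.1.trans (hcen.trans (centralizer_le (le_sSup (show K0 ∈ B0 from ⟨hK0, hK0E⟩)))))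

/-- Flavell: the layer of `H` lies in the layer. -/
theorem layer_le_aux (hOdd : OddChar.OddSolvable.{u}) : ∀ (n : ℕ) (G : Type u) [Group G] [Finite G],
    Nat.card G ≤ n → ∀ (r : ℕ) (s : MulAut G), Cop r s → ∀ H : Subgroup G, Inv s H →
      fixed s ≤ normalizer (H : Set G) → disp s H = H → ∀ K, CompIn K H → K ≤ Cfsg.layer G := by
  intro n
  induction n with
  | zero => intro G _ _ hn; exact absurd hn (by have : 0 < Nat.card G := Nat.card_pos; omega)
  | succ n ih =>
    intro G _ _ hn r s hC H hH hfix hd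
    refine layer_step hOdd hC ?_ hH hfix hd
    intro M hMne hMi H' hH'M hH'i hH'fix hH'd K hK X hX
    have hlt : Nat.card M < Nat.card G := lt_of_le_of_ne (Subgroup.card_le_card_group M)
      fun e => hMne (Subgroup.eq_top_of_card_eq M e)
    have h1 := ih M (by omega) r hMi.aut (hC.sub hMi) (H'.subgroupOf M) (Inv.subgroupOf hMi hH'i)
      (fun c hc => mem_normalizer_fintype fun y hy =>
        (mem_normalizer_iff.1 (hH'fix ⟨c.2, congrArg Subtype.val hc⟩) _).1 hy)
      (map_injective M.subtype_injective (by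
        rw [disp_subgroupOf hMi hH'M, hH'd, map_subgroupOf_eq_of_le hH'M]))
      (K.subgroupOf M) ⟨fun x hx => hK.1 hx, by
        have h2 := Components.component_map_equiv (subgroupOfEquivOfLe hH'M).symm hK.2
        convert h2 using 1
        ext x
        constructor
        · intro hx; exact ⟨⟨x, x.2⟩, hx, rfl⟩
        · rintro ⟨y, hy, rfl⟩; exact hy⟩
    intro x hx
    exact layer_map_le_iff.2 hX ⟨_, h1 (show (⟨x, hH'M (hK.1 hx)⟩ : M) ∈ K.subgroupOf M from hx), rfl⟩

theorem layer_le (hOdd : OddChar.OddSolvable.{u}) (hC : Cop r s) {H : Subgroup G} (hH : Inv s H)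
    (hfix : fixed s ≤ normalizer (H : Set G)) (hd : disp s H = H) :
    (Cfsg.layer H).map H.subtype ≤ Cfsg.layer G :=
  layer_map_le_iff.2 (layer_le_aux hOdd _ G le_rfl r s hC H hH hfix hd)

end Cfsg.Agent.LayerIn
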