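import Cfsg.Agent.Lib.CoprimeHHS.Shult
import Cfsg.Agent.Lib.Components.FStar
import Mathlib.GroupTheory.IsPerfect

/-! A perfect invariant normal subgroup of a group `H = [H,s]` acts trivially on a module on which it
fixes all the fixed points of `s`. -/

set_option autoImplicit false
set_option linter.style.haveILetI false
set_option linter.unusedSectionVars false
open Module
open scoped commutatorElement

universe u v

namespace Cfsg.Agent.LayerIn

open CoprimeHHS

/-- A perfect solvable subgroup is trivial. -/
theorem eq_bot_of_perfect {G : Type*} [Group G] {A : Subgroup G} (h : ⁅A, A⁆ = A) (hs : Group.IsSolvable A) :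
    A = ⊥ := by
  by_contra hne
  haveI : Nontrivial A := (Subgroup.nontrivial_iff_ne_bot _).2 hne
  haveI : Group.IsPerfect A := Subgroup.isPerfect_iff.2 h
  exact Group.IsPerfect.not_isSolvable A hs

variable {k : Type} [Field k]

/-- The irreducible case without fixed vectors. -/
theorem trivial_of_fpf {H : Type u} [Group H] [Finite H] {q r : ℕ} [Fact q.Prime] [CharP k q] {s : MulAut H}
    (hC : Cop r s) (hd : disp s (⊤ : Subgroup H) = ⊤) {E : Subgroup H} (hE : ⁅E, E⁆ = E) {V : Type v}
    [AddCommGroup V] [Module k V] [FiniteDimensional k V] [Finite V] [Nontrivial V] (τ : H →* Module.End k V)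
    (T : Module.End k V) (hT : T ^ r = 1) (hc : ∀ h, T * τ h = τ (s h) * T)
    (hirr : ∀ W : Submodule k V, (∀ h, W.map (τ h) ≤ W) → W.map T ≤ W → W = ⊥ ∨ W = ⊤)
    (hfpf : ∀ v, T v = v → v = 0) : ∀ e ∈ E, τ e = 1 := by
  haveI := Fact.mk hC.prime
  haveI : Finite (Module.End k V) := Finite.of_injective (fun f => ⇑f) fun _ _ e => LinearMap.ext (congrFun e)
  haveI : Finite (Module.End k V)ˣ := Finite.of_injective Units.val Units.val_injective
  set τu : H →* (Module.End k V)ˣ := τ.toHomUnits with hτu
  set Tu : (Module.End k V)ˣ := Units.ofPowEqOne T r hT hC.prime.ne_zero with hTu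
  have hTr : Tu ^ r = 1 := Units.ext (by rw [Units.val_pow_eq_pow_val]; exact hT)
  have hT1 : Tu ≠ 1 := fun e => by
    obtain ⟨v, hv⟩ := exists_ne (0 : V)
    have e1 : T = 1 := congrArg Units.val e
    exact hv (hfpf v (by rw [e1]; rfl))
  have hconj : ∀ h, Tu * τu h * Tu⁻¹ = τu (s h) := fun h => by
    rw [mul_inv_eq_iff_eq_mul]
    exact Units.ext (hc h)
  have hN : Subgroup.zpowers Tu ≤ Subgroup.normalizer (τu.range : Set (Module.End k V)ˣ) := by
    rw [Subgroup.zpowers_le]
    refine Subgroup.mem_normalizer_fintype ?_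
    rintro _ ⟨h, rfl⟩
    exact ⟨s h, (hconj h).symm⟩
  set X := τu.range ⊔ Subgroup.zpowers Tu with hXdef
  set A := τu.range.subgroupOf X with hA
  set B := (Subgroup.zpowers Tu).subgroupOf X with hB
  haveI : A.Normal := (Subgroup.normal_subgroupOf_iff_le_normalizer le_sup_left).2
    (sup_le Subgroup.le_normalizer hN)
  have hAB : A ⊔ B = ⊤ := by
    rw [hA, hB, ← Subgroup.subgroupOf_sup le_sup_left le_sup_right, Subgroup.subgroupOf_self]
  have hBr : Nat.card B = r := by
    rw [hB, Nat.card_congr (Subgroup.subgroupOfEquivOfLe le_sup_right).toEquiv, Nat.card_zpowers,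
      orderOf_eq_prime hTr hT1]
  have hAr : ¬ r ∣ Nat.card A := fun hdvd => hC.ndvd (hdvd.trans (by
    rw [hA, Nat.card_congr (Subgroup.subgroupOfEquivOfLe le_sup_left).toEquiv]
    exact Subgroup.card_range_dvd τu))
  let ρ : Representation k X V := (Units.coeHom _).comp X.subtype
  have hTX : Tu ∈ X := Subgroup.mem_sup_right (Subgroup.mem_zpowers Tu)
  let φ : H →* X := τu.codRestrict X fun h => Subgroup.mem_sup_left ⟨h, rfl⟩
  have hsh := shult (p := q) (ρ := ρ) A B hAB r hC.prime hBr hAr
    (fun a b e => Subtype.ext (Units.ext e))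
    (fun W hW => hirr W (fun h => hW (φ h)) (hW ⟨Tu, hTX⟩))
    (fun v hv => hfpf v (hv ⟨Tu, hTX⟩ (Subgroup.mem_zpowers Tu)))
  have hφ : ∀ h, φ h ∈ ⁅A, B⁆ := by
    have h1 : disp s (⊤ : Subgroup H) ≤ (⁅A, B⁆).comap φ := by
      rw [disp, Subgroup.closure_le]
      rintro _ ⟨h, -, rfl⟩
      show φ (h⁻¹ * s h) ∈ ⁅A, B⁆
      have e : φ (h⁻¹ * s h) = ⁅φ h⁻¹, (⟨Tu, hTX⟩ : X)⁆ := Subtype.ext (by
        show τu (h⁻¹ * s h) = τu h⁻¹ * Tu * (τu h⁻¹)⁻¹ * Tu⁻¹
        rw [map_mul, ← hconj, map_inv, inv_inv]
        group)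
      rw [e]
      exact Subgroup.commutator_mem_commutator (show τu h⁻¹ ∈ τu.range from ⟨_, rfl⟩) (Subgroup.mem_zpowers Tu)
    exact fun h => h1 (hd.ge (Subgroup.mem_top h))
  have hker : E.map φ = ⊥ := by
    rcases hsh with e | ⟨-, -, hsp⟩
    · exact eq_bot_iff.2 (by rintro _ ⟨x, -, rfl⟩; exact e.le (hφ x))
    · refine eq_bot_of_perfect (by rw [← Subgroup.map_commutator, hE]) ?_
      haveI : Group.IsSolvable ↥⁅A, B⁆ := by
        haveI := Fact.mk Nat.prime_two
        haveI := hsp.1.isNilpotent
        infer_instance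
      exact Components.isSolvable_mono (K := ⁅A, B⁆) (by rintro _ ⟨x, -, rfl⟩; exact hφ x)
  intro e he
  have h1 : φ e = 1 := by
    rw [← Subgroup.mem_bot, ← hker]
    exact Subgroup.mem_map_of_mem φ he
  exact congrArg Units.val (congrArg Subtype.val h1)

/-- The module lemma. -/
theorem trivial_of_fixed {H : Type u} [Group H] [Finite H] {q r : ℕ} [Fact q.Prime] [CharP k q]
    {s : MulAut H} (hC : Cop r s) (hd : disp s (⊤ : Subgroup H) = ⊤) (hne : q ≠ r) {E : Subgroup H}
    [hEn : E.Normal] (hEi : Inv s E) (hE : ⁅E, E⁆ = E) :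
    ∀ (n : ℕ) (V : Type v) [AddCommGroup V] [Module k V] [FiniteDimensional k V] [Finite V]
      (τ : H →* Module.End k V) (T : Module.End k V), finrank k V ≤ n → T ^ r = 1 →
      (∀ h, T * τ h = τ (s h) * T) → (∀ v, T v = v → ∀ e ∈ E, τ e v = v) → ∀ e ∈ E, τ e = 1 := by
  haveI := Fact.mk hC.prime
  have hr0 : (r : k) ≠ 0 := CoprimeFree.natCast_ne_zero (p := q) hC.prime hne
  intro n
  induction n with
  | zero =>
    intro V _ _ _ _ τ T hn _ _ _ e _
    haveI : Subsingleton V := Module.finrank_zero_iff.1 (Nat.le_zero.1 hn)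
    exact LinearMap.ext fun v => Subsingleton.elim _ _
  | succ n ih =>
    intro V _ _ _ _ τ T hn hT hc hfix
    by_cases hred : ∃ W : Submodule k V, (∀ h, W.map (τ h) ≤ W) ∧ W.map T ≤ W ∧ W ≠ ⊥ ∧ W ≠ ⊤
    · obtain ⟨W, hWh, hWT, hW0, hW1⟩ := hred
      have hWh' : ∀ h, ∀ v ∈ W, τ h v ∈ W := fun h v hv => hWh h (Submodule.mem_map_of_mem hv)
      have hWT' : ∀ v ∈ W, T v ∈ W := fun v hv => hWT (Submodule.mem_map_of_mem hv)
      have hlt : finrank k W < finrank k V := Submodule.finrank_lt hW1
      have hlt' : finrank k (V ⧸ W) < finrank k V := by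
        have h1 := W.finrank_quotient_add_finrank
        have h2 : 0 < finrank k W := by
          haveI : Nontrivial W := (Submodule.nontrivial_iff_ne_bot).2 hW0
          exact Module.finrank_pos
        omega
      have hTp : ∀ (i : ℕ), ∀ v ∈ W, (T ^ i) v ∈ W := fun i => by
        induction i with
        | zero => exact fun v hv => hv
        | succ i ih2 => intro v hv; rw [pow_succ', Module.End.mul_apply]; exact hWT' _ (ih2 v hv)
      -- the submodule
      let τW : H →* Module.End k W :=
        { toFun := fun h => (τ h).restrict (hWh' h)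
          map_one' := LinearMap.ext fun v => Subtype.ext (by simp)
          map_mul' := fun a b => LinearMap.ext fun v => Subtype.ext (by simp [LinearMap.restrict_apply]) }
      let TW : Module.End k W := T.restrict hWT'
      have hTW : ∀ i, ∀ v : W, ((TW ^ i) v : V) = (T ^ i) v := fun i v => by
        induction i with
        | zero => rfl
        | succ i ih2 => rw [pow_succ', pow_succ', Module.End.mul_apply, Module.End.mul_apply, ← ih2]; rfl
      have h1 := ih W τW TW (by omega) (LinearMap.ext fun v => Subtype.ext (by rw [hTW, hT]; rfl))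
        (fun h => LinearMap.ext fun v => Subtype.ext (LinearMap.congr_fun (hc h) (v : V)))
        (fun v hv e he => Subtype.ext (hfix v (congrArg Subtype.val hv) e he))
      -- the quotient
      let τQ : H →* Module.End k (V ⧸ W) :=
        { toFun := fun h => W.mapQ W (τ h) (fun v hv => hWh' h v hv)
          map_one' := Submodule.linearMap_qext _ (LinearMap.ext fun v => by simp)
          map_mul' := fun a b => Submodule.linearMap_qext _ (LinearMap.ext fun v => by simp) }
      haveI : Finite (V ⧸ W) := Finite.of_surjective _ (Submodule.Quotient.mk_surjective W)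
      let TQ : Module.End k (V ⧸ W) := W.mapQ W T (fun v hv => hWT' v hv)
      have hTQ : ∀ i, ∀ v : V, (TQ ^ i) (Submodule.Quotient.mk v) = Submodule.Quotient.mk ((T ^ i) v) :=
        fun i v => by
        induction i with
        | zero => rfl
        | succ i ih2 => rw [pow_succ', pow_succ', Module.End.mul_apply, Module.End.mul_apply, ih2]; rfl
      have h2 := ih (V ⧸ W) τQ TQ (by omega)
        (Submodule.linearMap_qext _ (LinearMap.ext fun v => by
          show (TQ ^ r) (Submodule.Quotient.mk v) = _
          rw [hTQ, hT]; rfl))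
        (fun h => Submodule.linearMap_qext _ (LinearMap.ext fun v =>
          congrArg Submodule.Quotient.mk (LinearMap.congr_fun (hc h) v)))
        (fun w hw e he => by
          obtain ⟨v, rfl⟩ := Submodule.Quotient.mk_surjective W w
          have hv : T v - v ∈ W := (Submodule.Quotient.eq W).1 hw
          have hvi : ∀ i : ℕ, (T ^ i) v - v ∈ W := fun i => by
            induction i with
            | zero => simp
            | succ i ih2 =>
              rw [pow_succ', Module.End.mul_apply, show T ((T ^ i) v) - v = T ((T ^ i) v - v) + (T v - v) by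
                rw [map_sub]; abel]
              exact add_mem (hWT' _ ih2) hv
          set u : V := (r : k)⁻¹ • (∑ i ∈ Finset.range r, T ^ i) v with hu
          have hTu : T u = u := by
            have h3 := congrArg (fun F : Module.End k V => F v) (mul_geom_sum T r)
            simp only [hT, sub_self, Module.End.mul_apply, LinearMap.sub_apply, Module.End.one_apply,
              LinearMap.zero_apply, sub_eq_zero] at h3
            rw [hu, map_smul, h3]
          have huv : u - v ∈ W := by
            have h4 : (r : k)⁻¹ • ∑ i ∈ Finset.range r, ((T ^ i) v - v) ∈ W :=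
              W.smul_mem _ (Submodule.sum_mem _ fun i _ => hvi i)
            rwa [Finset.sum_sub_distrib, Finset.sum_const, Finset.card_range, ← Nat.cast_smul_eq_nsmul k,
              smul_sub, inv_smul_smul₀ hr0, ← LinearMap.sum_apply, ← hu] at h4
          rw [← (Submodule.Quotient.eq W).2 huv]
          exact congrArg Submodule.Quotient.mk (hfix u hTu e he))
      have h3 : ∀ e ∈ E, ∀ v, τ e v - v ∈ W := fun e he v => (Submodule.Quotient.eq W).1
        (LinearMap.congr_fun (h2 e he) (Submodule.Quotient.mk v))
      have h4 : ∀ e ∈ E, ∀ w ∈ W, τ e w = w := fun e he w hw =>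
        congrArg Subtype.val (LinearMap.congr_fun (h1 e he) ⟨w, hw⟩)
      have h5 : ∀ a ∈ E, ∀ b ∈ E, ∀ v, τ (a * b) v = τ a v + τ b v - v := fun a ha b hb v => by
        have h6 := h4 a ha _ (h3 b hb v)
        rw [map_sub] at h6
        rw [map_mul, Module.End.mul_apply]
        rw [sub_eq_iff_eq_add] at h6
        rw [h6]
        abel
      have hcomm : ∀ a ∈ E, ∀ b ∈ E, τ (a * b) = τ (b * a) := fun a ha b hb =>
        LinearMap.ext fun v => by rw [h5 a ha b hb, h5 b hb a ha, add_comm (τ a v)]
      have hle : ⁅E, E⁆ ≤ (τ.toHomUnits).ker := Subgroup.commutator_le.2 fun a ha b hb => by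
        refine MonoidHom.mem_ker.2 (Units.ext ?_)
        show τ ⁅a, b⁆ = 1
        rw [commutatorElement_def, show a * b * a⁻¹ * b⁻¹ = (a * b) * (b * a)⁻¹ by group, map_mul,
          hcomm a ha b hb, ← map_mul, mul_inv_cancel, map_one]
      intro e he
      exact congrArg Units.val (MonoidHom.mem_ker.1 (hle (hE.ge he)))
    · rcases subsingleton_or_nontrivial V with hV | hV
      · exact fun e _ => LinearMap.ext fun v => Subsingleton.elim _ _
      by_cases hf : ∀ v, T v = v → v = 0
      · refine trivial_of_fpf hC hd hE τ T hT hc (fun W h1 h2 => ?_) hf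
        by_contra h3
        exact hred ⟨W, h1, h2, fun e => h3 (Or.inl e), fun e => h3 (Or.inr e)⟩
      · push Not at hf
        obtain ⟨w, hw, hw0⟩ := hf
        let F : Submodule k V :=
          { carrier := {v | ∀ e ∈ E, τ e v = v}
            zero_mem' := fun e _ => map_zero _
            add_mem' := fun {a b} ha hb e he => by rw [map_add, ha e he, hb e he]
            smul_mem' := fun c a ha e he => by rw [map_smul, ha e he] }
        have hF1 : ∀ h, F.map (τ h) ≤ F := by
          rintro h _ ⟨v, hv, rfl⟩ e he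
          rw [← Module.End.mul_apply, ← map_mul, show e * h = h * (h⁻¹ * e * h) by group, map_mul,
            Module.End.mul_apply, hv _ (hEn.conj_mem' e he h)]
        have hF2 : F.map T ≤ F := by
          rintro _ ⟨v, hv, rfl⟩ e he
          obtain ⟨e', rfl⟩ := s.surjective e
          rw [← Module.End.mul_apply, ← hc, Module.End.mul_apply, hv _ (hEi.symm_mem he)]
        have hFtop : F = ⊤ := by
          by_contra h3
          exact hred ⟨F, hF1, hF2, fun e => hw0 ((Submodule.mem_bot k).1 (e.le (hfix w hw))), h3⟩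
        exact fun e he => LinearMap.ext fun v => (hFtop.ge (Submodule.mem_top : v ∈ ⊤)) e he

end Cfsg.Agent.LayerIn
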