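import Cfsg.Agent.Lib.CoprimeHHS.LayerStep
import Cfsg.Agent.Lib.CoprimeHHS.LayerComp
import Mathlib.Algebra.Field.ZMod

/-! An invariant perfect subgroup centralising the fixed points in the layer centralises the components
which are moved. -/

set_option autoImplicit false
set_option linter.style.haveILetI false
set_option linter.unusedSectionVars false
open scoped commutatorElement
open Subgroup

universe u

namespace Cfsg.Agent.LayerIn

open CoprimeHHS

variable {G : Type u} [Group G]

/-- The product of the first `n` images of `x`. -/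
def dlt (s : MulAut G) (x : G) : ℕ → G
  | 0 => 1
  | n + 1 => dlt s x n * (s ^ n) x

theorem dlt_succ' (s : MulAut G) (x : G) (n : ℕ) : dlt s x (n + 1) = x * s (dlt s x n) := by
  induction n with
  | zero => simp [dlt]
  | succ n ih =>
    show dlt s x (n + 1) * (s ^ (n + 1)) x = x * s (dlt s x n * (s ^ n) x)
    rw [map_mul, ← mul_assoc, ← ih, pow_succ']
    rfl

variable [Finite G] {r : ℕ} {s : MulAut G}

theorem mem_normalizer_of_map_eq {L : Subgroup G} {g : G} (h : L.map (MulAut.conj g).toMonoidHom = L) :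
    g ∈ normalizer (L : Set G) :=
  mem_normalizer_fintype fun y hy => h.le ⟨y, hy, rfl⟩

theorem map_conj_of_mem_normalizer {L : Subgroup G} {g : G} (h : g ∈ normalizer (L : Set G)) :
    L.map (MulAut.conj g).toMonoidHom = L := by
  refine le_antisymm (by rintro _ ⟨y, hy, rfl⟩; exact (mem_normalizer_iff.1 h y).1 hy) fun y hy => ?_
  refine ⟨g⁻¹ * y * g, (mem_normalizer_iff''.1 h y).1 hy, ?_⟩
  show g * (g⁻¹ * y * g) * g⁻¹ = y
  group

theorem centralizes_moved (hC : Cop r s) {P L : Subgroup G} (hP : Inv s P)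
    (hPd : fixed s ⊓ Cfsg.layer G ≤ centralizer (P : Set G)) (hL : Cfsg.IsComponent L) (hm : ¬ Inv s L) :
    L ≤ centralizer (P : Set G) := by
  classical
  haveI := Fact.mk hC.prime
  let O : ℕ → Subgroup G := fun i => L.map (s ^ i).toMonoidHom
  have hO : ∀ i, Cfsg.IsComponent (O i) := fun i => Components.component_map_equiv (s ^ i) hL
  have hO0 : O 0 = L := by
    show L.map (s ^ 0).toMonoidHom = L
    rw [pow_zero]; exact L.map_id
  have hOmem : ∀ i, ∀ x ∈ L, (s ^ i) x ∈ O i := fun i x hx => ⟨x, hx, rfl⟩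
  have hne : ∀ i, ¬ r ∣ i → O i ≠ L := fun i hi e => hm (by
    obtain ⟨a, ha⟩ := exists_pow_eq_self_of_coprime (x := s)
      (Nat.Coprime.coprime_dvd_right hC.pow_orderOf_dvd (Nat.coprime_comm.1 (hC.prime.coprime_iff_not_dvd.2 hi)))
    rw [← ha]
    exact Inv.pow (fun x hx => e.le (hOmem i x hx)) a)
  have hcom : ∀ {M M' : Subgroup G}, Cfsg.IsComponent M → Cfsg.IsComponent M' → M ≠ M' →
      ∀ y ∈ M, ∀ z ∈ M', Commute y z := fun hM hM' hne' y hy z hz =>
    (mem_centralizer_iff.1 (commutator_eq_bot_iff_le_centralizer.1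
      (Components.components_commute hM hM' hne') hy) z hz).symm
  have hfar : ∀ (M : Subgroup G), Cfsg.IsComponent M → ∀ x ∈ L, ∀ n, (∀ i < n, M ≠ O i) →
      ∀ y ∈ M, Commute y (dlt s x n) := by
    intro M hM x hx n
    induction n with
    | zero => intro _ y _; exact Commute.one_right y
    | succ n ih =>
      intro hn y hy
      exact (ih (fun i hi => hn i (by omega)) y hy).mul_right
        (hcom hM (hO n) (hn n (by omega)) y hy _ (hOmem n x hx))
  have hrel : ∀ x ∈ L, ∀ y ∈ L, ∀ n, n < r → dlt s x (n + 1) * y = x * y * x⁻¹ * dlt s x (n + 1) := by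
    intro x hx y hy n
    induction n with
    | zero => intro _; simp [dlt]
    | succ n ih =>
      intro hn
      have h1 : Commute y ((s ^ (n + 1)) x) := hcom hL (hO _)
        (fun e => hne _ (fun hd => absurd (Nat.le_of_dvd (by omega) hd) (by omega)) e.symm) y hy _
        (hOmem _ x hx)
      show dlt s x (n + 1) * (s ^ (n + 1)) x * y = x * y * x⁻¹ * (dlt s x (n + 1) * (s ^ (n + 1)) x)
      rw [mul_assoc, ← h1.eq, ← mul_assoc, ih (by omega), ← mul_assoc]
  have hr1 : r = (r - 1) + 1 := by have := hC.prime.one_lt; omega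
  have hrel' : ∀ x ∈ L, ∀ y ∈ L, dlt s x r * y = x * y * x⁻¹ * dlt s x r := fun x hx y hy => by
    rw [hr1]; exact hrel x hx y hy _ (by omega)
  have hfix : ∀ x ∈ L, s (dlt s x r) = dlt s x r := fun x hx => by
    have hcx : ∀ n, n ≤ r → Commute x (dlt s x n) := fun n => by
      induction n with
      | zero => intro _; exact Commute.one_right x
      | succ n ih =>
        intro hn
        refine (ih (by omega)).mul_right ?_
        rcases Nat.eq_zero_or_pos n with rfl | hpos
        · exact Commute.refl x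
        · exact hcom hL (hO n) (fun e => hne n
            (fun hd => absurd (Nat.le_of_dvd hpos hd) (by omega)) e.symm) x hx _ (hOmem n x hx)
    have h1 : dlt s x (r + 1) = x * s (dlt s x r) := dlt_succ' s x r
    rw [dlt, hC.pow_eq, show (1 : MulAut G) x = x from rfl, ← (hcx r le_rfl).eq] at h1
    exact (mul_left_cancel h1).symm
  have hlay : ∀ x ∈ L, ∀ n, dlt s x n ∈ Cfsg.layer G := fun x hx n => by
    induction n with
    | zero => exact one_mem _
    | succ n ih => exact mul_mem ih (Components.component_le_layer (hO n) (hOmem n x hx))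
  have hPδ : ∀ e ∈ P, ∀ x ∈ L, e * dlt s x r = dlt s x r * e := fun e he x hx =>
    mem_centralizer_iff.1 (hPd ⟨hfix x hx, hlay x hx r⟩) e he
  -- the images lie in the orbit
  have horb : ∀ e ∈ P, ∃ i < r, L.map (MulAut.conj e).toMonoidHom = O i := by
    intro e he
    by_contra hno
    push Not at hno
    refine Components.quasisimple_not_commutative hL.2 (le_centralizer_iff_isMulCommutative.1 fun y hy => ?_)
    refine mem_centralizer_iff.2 fun x hx => ?_
    have h1 : e * y * e⁻¹ * dlt s x r = dlt s x r * (e * y * e⁻¹) :=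
      (hfar _ (Components.component_conj hL e) x hx r hno _ ⟨y, hy, rfl⟩).eq
    have h2 : dlt s x r * y = y * dlt s x r := by
      calc dlt s x r * y = e⁻¹ * (e * dlt s x r) * y := by group
        _ = e⁻¹ * (dlt s x r * e) * y := by rw [hPδ e he x hx]
        _ = e⁻¹ * (dlt s x r * (e * y * e⁻¹)) * e := by group
        _ = e⁻¹ * (e * y * e⁻¹ * dlt s x r) * e := by rw [h1]
        _ = y * e⁻¹ * (dlt s x r * e) := by group
        _ = y * e⁻¹ * (e * dlt s x r) := by rw [hPδ e he x hx]
        _ = y * dlt s x r := by group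
    have h3 := (hrel' x hx y hy).symm.trans h2
    exact mul_inv_eq_iff_eq_mul.1 (mul_right_cancel h3)
  have hmod : ∀ i, O i = O (i % r) := fun i => by
    show L.map (s ^ i).toMonoidHom = L.map (s ^ (i % r)).toMonoidHom
    rw [← pow_eq_pow_mod i hC.pow_eq]
  have hadd : ∀ i j, (∃ e ∈ P, L.map (MulAut.conj e).toMonoidHom = O i) →
      (∃ e ∈ P, L.map (MulAut.conj e).toMonoidHom = O j) →
      ∃ e ∈ P, L.map (MulAut.conj e).toMonoidHom = O (i + j) := by
    rintro i j ⟨e, he, hei⟩ ⟨f, hf, hfj⟩
    refine ⟨(s ^ i) f * e, mul_mem (hP.pow i f hf) he, ?_⟩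
    have h1 : (MulAut.conj ((s ^ i) f)).toMonoidHom.comp (s ^ i).toMonoidHom =
        (s ^ i).toMonoidHom.comp (MulAut.conj f).toMonoidHom := MonoidHom.ext fun x => by simp
    have h2 : (MulAut.conj ((s ^ i) f * e)).toMonoidHom =
        (MulAut.conj ((s ^ i) f)).toMonoidHom.comp (MulAut.conj e).toMonoidHom := by
      rw [map_mul]; rfl
    rw [h2, ← Subgroup.map_map, hei]
    show (L.map (s ^ i).toMonoidHom).map _ = L.map (s ^ (i + j)).toMonoidHom
    rw [Subgroup.map_map, h1, ← Subgroup.map_map, hfj]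
    show (L.map (s ^ j).toMonoidHom).map (s ^ i).toMonoidHom = L.map (s ^ (i + j)).toMonoidHom
    rw [Subgroup.map_map, pow_add]
    rfl
  have h0 : ∃ e ∈ P, L.map (MulAut.conj e).toMonoidHom = O 0 :=
    ⟨1, one_mem _, by rw [hO0, map_one]; exact L.map_id⟩
  have hnorm : ∀ e ∈ P, e ∈ normalizer (L : Set G) := by
    intro e he
    obtain ⟨i, hi, hei⟩ := horb e he
    rcases Nat.eq_zero_or_pos i with rfl | hpos
    · exact mem_normalizer_of_map_eq (hei.trans hO0)
    exfalso
    have hmul : ∀ a : ℕ, ∃ e ∈ P, L.map (MulAut.conj e).toMonoidHom = O (a * i) := fun a => by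
      induction a with
      | zero => rw [zero_mul]; exact h0
      | succ a ih => rw [Nat.succ_mul]; exact hadd _ _ ih ⟨e, he, hei⟩
    have hall : ∀ n : Fin r, ∃ e ∈ P, L.map (MulAut.conj e).toMonoidHom = O n := fun n => by
      have hi0 : (i : ZMod r) ≠ 0 := fun e' => by
        rw [ZMod.natCast_eq_zero_iff] at e'
        exact absurd (Nat.le_of_dvd hpos e') (by omega)
      obtain ⟨f, hf, hfe⟩ := hmul (((n : ℕ) : ZMod r) * (i : ZMod r)⁻¹).val
      refine ⟨f, hf, ?_⟩
      rw [hfe, hmod]
      have h1 : (((((n : ℕ) : ZMod r) * (i : ZMod r)⁻¹).val * i : ℕ) : ZMod r) = ((n : ℕ) : ZMod r) := by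
        rw [Nat.cast_mul, ZMod.natCast_zmod_val, inv_mul_cancel_right₀ hi0]
      rw [ZMod.natCast_eq_natCast_iff'] at h1
      rw [h1, Nat.mod_eq_of_lt n.2]
    choose f hf hfe using hall
    let St := (normalizer (L : Set G)).subgroupOf P
    let φ : Fin r → P ⧸ St := fun n => QuotientGroup.mk ⟨f n, hf n⟩
    have hiff : ∀ a b : P, (QuotientGroup.mk a : P ⧸ St) = QuotientGroup.mk b ↔
        L.map (MulAut.conj (a : G)).toMonoidHom = L.map (MulAut.conj (b : G)).toMonoidHom := fun a b => by
      rw [QuotientGroup.eq]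
      have h1 : L.map (MulAut.conj (b : G)).toMonoidHom =
          (L.map (MulAut.conj ((a : G)⁻¹ * b)).toMonoidHom).map (MulAut.conj (a : G)).toMonoidHom := by
        rw [Subgroup.map_map]
        congr 1
        exact MonoidHom.ext fun x => by simp [mul_assoc]
      constructor
      · intro h
        rw [h1, map_conj_of_mem_normalizer (show (a : G)⁻¹ * b ∈ normalizer (L : Set G) from h)]
      · intro h
        rw [h1] at h
        exact mem_normalizer_of_map_eq (map_injective (MulAut.conj (a : G)).injective h).symm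
    have hinj : ∀ a b : ℕ, a < b → b < r → O a ≠ O b := fun a b hab hb h1 => by
      refine hne (b - a) (fun hd => absurd (Nat.le_of_dvd (by omega) hd) (by omega)) ?_
      refine map_injective (f := (s ^ a).toMonoidHom) (s ^ a).injective ?_
      show (L.map (s ^ (b - a)).toMonoidHom).map (s ^ a).toMonoidHom = _
      rw [Subgroup.map_map]
      refine Eq.trans ?_ h1.symm
      show L.map _ = L.map (s ^ b).toMonoidHom
      rw [show s ^ b = s ^ a * s ^ (b - a) by rw [← pow_add]; congr 1; omega]
      rfl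
    have hbij : Function.Bijective φ := by
      constructor
      · intro a b hab
        have h1 := (hiff _ _).1 hab
        rw [hfe, hfe] at h1
        by_contra hab'
        rcases lt_or_gt_of_ne (fun e' => hab' (Fin.ext e')) with hlt | hlt
        · exact hinj a b hlt b.2 h1
        · exact hinj b a hlt a.2 h1.symm
      · intro q
        obtain ⟨a, rfl⟩ := QuotientGroup.mk_surjective q
        obtain ⟨j, hj, haj⟩ := horb a a.2
        exact ⟨⟨j, hj⟩, (hiff _ _).2 ((hfe ⟨j, hj⟩).trans haj.symm)⟩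
    refine hC.ndvd (dvd_trans ?_ (Subgroup.card_subgroup_dvd_card P))
    have h2 := Subgroup.card_quotient_dvd_card St
    rwa [← Nat.card_congr (Equiv.ofBijective φ hbij), Nat.card_fin] at h2
  -- conjugation by `P` is trivial on `L` modulo its centre
  have h4 : ⁅⁅P, L⁆, L⁆ = ⊥ := by
    refine commutator_eq_bot_iff_le_centralizer.2 (commutator_le.2 fun e he x hx => ?_)
    have hN := hnorm e he
    have key : ∀ y ∈ L, x⁻¹ * (e * x * e⁻¹) * y = y * (x⁻¹ * (e * x * e⁻¹)) := by
      intro y hy
      have hy' : e⁻¹ * y * e ∈ L := (mem_normalizer_iff''.1 hN y).1 hy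
      have h1 := hrel' x hx _ hy'
      have h2 := hrel' x hx y hy
      have hc := hPδ e he x hx
      have hc' : dlt s x r * e⁻¹ = e⁻¹ * dlt s x r := by
        calc dlt s x r * e⁻¹ = e⁻¹ * (e * dlt s x r) * e⁻¹ := by group
          _ = e⁻¹ * (dlt s x r * e) * e⁻¹ := by rw [hc]
          _ = e⁻¹ * dlt s x r := by group
      have h3 : dlt s x r * y = e * x * e⁻¹ * y * (e * x * e⁻¹)⁻¹ * dlt s x r := by
        calc dlt s x r * y = dlt s x r * e * (e⁻¹ * y * e) * e⁻¹ := by group
          _ = e * (dlt s x r * (e⁻¹ * y * e)) * e⁻¹ := by rw [← hc]; group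
          _ = e * (x * (e⁻¹ * y * e) * x⁻¹ * dlt s x r) * e⁻¹ := by rw [h1]
          _ = e * x * e⁻¹ * y * (e * x⁻¹) * (dlt s x r * e⁻¹) := by group
          _ = e * x * e⁻¹ * y * (e * x * e⁻¹)⁻¹ * dlt s x r := by rw [hc']; group
      have h5 := mul_right_cancel (h2.symm.trans h3)
      calc x⁻¹ * (e * x * e⁻¹) * y
          = x⁻¹ * (e * x * e⁻¹ * y * (e * x * e⁻¹)⁻¹) * (e * x * e⁻¹) := by group
        _ = x⁻¹ * (x * y * x⁻¹) * (e * x * e⁻¹) := by rw [h5]
        _ = y * (x⁻¹ * (e * x * e⁻¹)) := by group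
    have hz : x⁻¹ * (e * x * e⁻¹) ∈ centralizer (L : Set G) :=
      mem_centralizer_iff.2 fun y hy => (key y hy).symm
    have h6 : ⁅e, x⁆ = x⁻¹ * (e * x * e⁻¹) := by
      have h7 := mem_centralizer_iff.1 hz x hx
      rw [commutatorElement_def]
      calc e * x * e⁻¹ * x⁻¹ = x * (x⁻¹ * (e * x * e⁻¹)) * x⁻¹ := by group
        _ = x⁻¹ * (e * x * e⁻¹) * x * x⁻¹ := by rw [h7]
        _ = x⁻¹ * (e * x * e⁻¹) := by group
    rw [h6]
    exact hz
  have h5 := commute_of_double (Components.component_commutator_eq hL) h4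
  rw [commutator_comm] at h5
  exact commutator_eq_bot_iff_le_centralizer.1 h5

end Cfsg.Agent.LayerIn
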