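import Cfsg.Agent.Lib.CoprimeHHS.LayerModule
import Cfsg.Agent.Lib.CoprimeHHS.Faith
import Cfsg.Agent.Lib.Solvable.CoprimeFreeGroup
import Cfsg.Agent.Lib.Solvable.NilpotentFrattini
import Cfsg.Agent.Lib.Transfer.PGroup

/-! A perfect subgroup of `H = [H,s]` centralising the fixed points of an invariant `q`-group normalised by
`H` centralises the whole `q`-group. -/

set_option autoImplicit false
set_option linter.style.haveILetI false
set_option linter.unusedSectionVars false
open scoped commutatorElement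

universe u

namespace Cfsg.Agent.LayerIn

open CoprimeHHS

/-- A perfect group centralises what it centralises twice. -/
theorem commute_of_double {G : Type*} [Group G] {A E : Subgroup G} (hE : ⁅E, E⁆ = E) (h : ⁅⁅A, E⁆, E⁆ = ⊥) :
    ⁅A, E⁆ = ⊥ := by
  have h2 : ⁅⁅E, A⁆, E⁆ = ⊥ := by rwa [Subgroup.commutator_comm E A]
  have := Subgroup.commutator_commutator_eq_bot_of_rotate (H₁ := E) (H₂ := E) (H₃ := A) h2 h
  rwa [hE, Subgroup.commutator_comm] at this

section quot

variable {Q : Type*} [Group Q] (N : Subgroup Q) [hN : N.Characteristic]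

/-- The action of automorphisms on the quotient by a characteristic subgroup. -/
def quotAut : MulAut Q →* MulAut (Q ⧸ N) where
  toFun e := QuotientGroup.congr N N e (Subgroup.characteristic_iff_map_eq.1 hN e)
  map_one' := MulEquiv.ext fun x => by obtain ⟨y, rfl⟩ := QuotientGroup.mk_surjective x; rfl
  map_mul' a b := MulEquiv.ext fun x => by obtain ⟨y, rfl⟩ := QuotientGroup.mk_surjective x; rfl

theorem quotAut_mk (e : MulAut Q) (y : Q) : quotAut N e (QuotientGroup.mk y) = QuotientGroup.mk (e y) := rfl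

end quot

variable {G : Type u} [Group G] [Finite G] {r : ℕ} {s : MulAut G}

theorem centralizes_step (hC : Cop r s) {H E : Subgroup G} (hH : Inv s H) (hd : disp s H = H)
    (hEi : Inv s E) (hE : ⁅E, E⁆ = E) (hEH : E ≤ H) (hHE : H ≤ Subgroup.normalizer (E : Set G))
    {q : ℕ} [Fact q.Prime] :
    ∀ (n : ℕ) (Q : Subgroup G), Nat.card Q ≤ n → IsPGroup q Q → Inv s Q →
      H ≤ Subgroup.normalizer (Q : Set G) → Q ⊓ fixed s ≤ Subgroup.centralizer (E : Set G) →
      Q ≤ Subgroup.centralizer (E : Set G) := by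
  intro n
  induction n with
  | zero => intro Q hn; exact absurd hn (by have : 0 < Nat.card Q := Nat.card_pos; omega)
  | succ n ih =>
    intro Q hn hQ hQi hQH hfix
    rcases eq_or_ne Q ⊥ with rfl | hQ0
    · exact bot_le
    haveI : Nontrivial Q := (Subgroup.nontrivial_iff_ne_bot Q).2 hQ0
    haveI := hQ.isNilpotent
    set F : Subgroup Q := frattini Q with hF
    have hFne : F ≠ ⊤ := by
      obtain ⟨M, hM, -⟩ := (eq_top_or_exists_le_coatom (⊥ : Subgroup Q)).resolve_left bot_ne_top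
      exact fun e => hM.1 (top_le_iff.1 (e ▸ frattini_le_coatom hM))
    haveI hFc : F.Characteristic := frattini_characteristic
    set Q₁ := F.map Q.subtype with hQ1
    have hQ1Q : Q₁ ≤ Q := Subgroup.map_subtype_le _
    have hcard : Nat.card Q₁ < Nat.card Q := by
      rw [hQ1, Nat.card_congr (F.equivMapOfInjective _ Q.subtype_injective).symm.toEquiv]
      exact lt_of_le_of_ne (Subgroup.card_le_card_group F) fun e => hFne (Subgroup.eq_top_of_card_eq F e)
    have hchar : ∀ (e : MulAut Q), ∀ y ∈ F, e y ∈ F := fun e y hy =>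
      (Subgroup.characteristic_iff_map_eq.1 hFc e).le ⟨y, hy, rfl⟩
    have hQ1i : Inv s Q₁ := by
      rintro _ ⟨y, hy, rfl⟩
      exact ⟨hQi.aut y, hchar _ y hy, rfl⟩
    have hQ1H : H ≤ Subgroup.normalizer (Q₁ : Set G) := fun x hx => by
      refine Subgroup.mem_normalizer_fintype ?_
      rintro _ ⟨y, hy, rfl⟩
      exact ⟨Q.normalizerMonoidHom ⟨x, hQH hx⟩ y, hchar _ y hy, rfl⟩
    have h1 : Q₁ ≤ Subgroup.centralizer (E : Set G) :=
      ih Q₁ (by omega) (hQ.to_le hQ1Q) hQ1i hQ1H ((inf_le_inf_right _ hQ1Q).trans hfix)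
    -- the quotient as a module
    have hcommF : ∀ a b : Q ⧸ F, a * b = b * a := by
      intro a b
      obtain ⟨a, rfl⟩ := QuotientGroup.mk_surjective a
      obtain ⟨b, rfl⟩ := QuotientGroup.mk_surjective b
      refine QuotientGroup.eq.2 (SolvStruct.commutator_le_frattini Q ?_)
      rw [show (a * b)⁻¹ * (b * a) = ⁅b⁻¹, a⁻¹⁆ by rw [commutatorElement_def]; group]
      exact Subgroup.commutator_mem_commutator (Subgroup.mem_top _) (Subgroup.mem_top _)
    letI instC : CommGroup (Q ⧸ F) :=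
      { (inferInstance : Group (Q ⧸ F)) with mul_comm := hcommF }
    haveI instM : Module (ZMod q) (Additive (Q ⧸ F)) := AddCommGroup.zmodModule fun v => by
      obtain ⟨a, ha⟩ := QuotientGroup.mk_surjective (Additive.toMul v)
      change Additive.ofMul ((Additive.toMul v) ^ q) = 0
      rw [← ha, ← QuotientGroup.mk_pow, (QuotientGroup.eq_one_iff _).2 (PGroupBasics.pow_mem_frattini hQ a)]
      rfl
    have hqr : q ≠ r := fun e => hC.ndvd (e ▸ (hQ.card_eq_or_dvd.resolve_left fun h =>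
      hQ0 (Subgroup.card_eq_one.1 h)).trans (Subgroup.card_subgroup_dvd_card Q))
    haveI : Fact r.Prime := ⟨hC.prime⟩
    let β : H →* MulAut (Q ⧸ F) := (quotAut F).comp (Q.normalizerMonoidHom.comp (Subgroup.inclusion hQH))
    let α : MulAut (Q ⧸ F) := quotAut F hQi.aut
    have hαr : α ^ r = 1 := by rw [show α = quotAut F hQi.aut from rfl, ← map_pow, (hC.sub hQi).pow_eq, map_one]
    have hαβ : ∀ h, α * β h = β (hH.aut h) * α := fun h => by
      show quotAut F _ * quotAut F _ = quotAut F _ * quotAut F _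
      rw [← map_mul, ← map_mul]
      refine congrArg _ (MulEquiv.ext fun y => Subtype.ext ?_)
      show s ((h : G) * (y : G) * (h : G)⁻¹) = s (h : G) * s (y : G) * (s (h : G))⁻¹
      rw [map_mul, map_mul, map_inv]
    haveI : (E.subgroupOf H).Normal := (Subgroup.normal_subgroupOf_iff_le_normalizer hEH).2 hHE
    have hdH : disp hH.aut (⊤ : Subgroup H) = ⊤ := by
      refine Subgroup.map_injective H.subtype_injective ?_
      rw [← Subgroup.subgroupOf_self H, disp_subgroupOf hH le_rfl, hd, Subgroup.map_subgroupOf_eq_of_le le_rfl]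
    have hEH' : ⁅E.subgroupOf H, E.subgroupOf H⁆ = E.subgroupOf H := by
      refine Subgroup.map_injective H.subtype_injective ?_
      rw [Subgroup.map_commutator, Subgroup.map_subgroupOf_eq_of_le hEH, hE]
    haveI : Module.Finite (ZMod q) (Additive (Q ⧸ F)) := Module.Finite.of_finite
    let τ : H →* Module.End (ZMod q) (Additive (Q ⧸ F)) := (CoprimeFree.autEnd q (Q ⧸ F)).comp β
    let T : Module.End (ZMod q) (Additive (Q ⧸ F)) := CoprimeFree.autEnd q (Q ⧸ F) α
    have htriv := trivial_of_fixed (k := ZMod q) (q := q) (hC.sub hH) hdH hqr (E := E.subgroupOf H)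
      (Inv.subgroupOf hH hEi) hEH' _ (Additive (Q ⧸ F)) τ T le_rfl
      (by show CoprimeFree.autEnd q (Q ⧸ F) α ^ r = 1; rw [← map_pow, hαr, map_one])
      (fun h => by
        show CoprimeFree.autEnd q (Q ⧸ F) α * CoprimeFree.autEnd q (Q ⧸ F) (β h) =
          CoprimeFree.autEnd q (Q ⧸ F) (β (hH.aut h)) * CoprimeFree.autEnd q (Q ⧸ F) α
        rw [← map_mul, ← map_mul, hαβ])
      (fun v hv e he => by
        have hFi : Inv hQi.aut F := fun y hy => hchar _ y hy
        obtain ⟨c, hc, hcv⟩ := (hC.sub hQi).exists_fixed_mk hFi (x := Additive.toMul v)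
          (congrArg Additive.toMul hv)
        show Additive.ofMul (β e (Additive.toMul v)) = v
        rw [← hcv]
        show Additive.ofMul (QuotientGroup.mk (Q.normalizerMonoidHom ⟨(e : G), hQH e.2⟩ c)) = v
        rw [show Q.normalizerMonoidHom ⟨(e : G), hQH e.2⟩ c = c from Subtype.ext (by
          show (e : G) * c * (e : G)⁻¹ = c
          have h3 := Subgroup.mem_centralizer_iff.1 (hfix ⟨c.2, congrArg Subtype.val hc⟩) e he
          exact mul_inv_eq_iff_eq_mul.2 h3), hcv]
        rfl)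
    have h2 : ⁅Q, E⁆ ≤ Q₁ := Subgroup.commutator_le.2 fun y hy e he => by
      have h3 : β ⟨e, hEH he⟩ (QuotientGroup.mk ⟨y, hy⟩) = QuotientGroup.mk ⟨y, hy⟩ :=
        congrArg Additive.toMul (LinearMap.congr_fun (htriv ⟨e, hEH he⟩ he) (Additive.ofMul (QuotientGroup.mk ⟨y, hy⟩)))
      have h4 : (Q.normalizerMonoidHom ⟨e, hQH (hEH he)⟩ ⟨y, hy⟩)⁻¹ * ⟨y, hy⟩ ∈ F := QuotientGroup.eq.1 h3
      have h5 : ((Q.normalizerMonoidHom ⟨e, hQH (hEH he)⟩ ⟨y, hy⟩)⁻¹ * ⟨y, hy⟩ : Q).1 ∈ Q₁ :=
        ⟨_, h4, rfl⟩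
      have h6 : (e * y * e⁻¹)⁻¹ * y ∈ Q₁ := h5
      have h7 : Q ≤ Subgroup.normalizer (Q₁ : Set G) := fun x hx => by
        refine Subgroup.mem_normalizer_fintype ?_
        rintro _ ⟨z, hz, rfl⟩
        exact ⟨_, hchar (MulAut.conj (⟨x, hx⟩ : Q)) z hz, rfl⟩
      have h8 := (Subgroup.mem_normalizer_iff.1 (h7 hy) _).1 h6
      have h9 := (Subgroup.mem_normalizer_iff.1 (hQ1H (hEH he)) _).1 h6
      rw [show ⁅y, e⁆ = y * ((e * y * e⁻¹)⁻¹ * y) * y⁻¹ by rw [commutatorElement_def]; group]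
      exact h8
    have h3 : ⁅⁅Q, E⁆, E⁆ = ⊥ :=
      Subgroup.commutator_eq_bot_iff_le_centralizer.2 (h2.trans h1)
    exact Subgroup.commutator_eq_bot_iff_le_centralizer.1 (commute_of_double hE h3)

theorem centralizes (hC : Cop r s) {H E Q : Subgroup G} (hH : Inv s H) (hd : disp s H = H)
    (hEi : Inv s E) (hE : ⁅E, E⁆ = E) (hEH : E ≤ H) (hHE : H ≤ Subgroup.normalizer (E : Set G))
    (q : ℕ) [Fact q.Prime] (hQ : IsPGroup q Q) (hQi : Inv s Q) (hQH : H ≤ Subgroup.normalizer (Q : Set G))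
    (hfix : Q ⊓ fixed s ≤ Subgroup.centralizer (E : Set G)) : Q ≤ Subgroup.centralizer (E : Set G) :=
  centralizes_step hC hH hd hEi hE hEH hHE (Nat.card Q) Q le_rfl hQ hQi hQH hfix

end Cfsg.Agent.LayerIn
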