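import Cfsg.Agent.Lib.CoprimeHHS.Main
import Cfsg.Agent.Lib.Perm.Modules
import Cfsg.Agent.Lib.FiniteGroup.Kazarin
import Cfsg.Agent.Lib.Solvable.NilpotentFrattini
import Cfsg.Prelude.Def_Transfer

/-! A group of prime order acting coprimely and without fixed vectors on a faithful irreducible module:
the displacements are trivial or form a special two-group. -/

set_option autoImplicit false
set_option linter.unusedSectionVars false
open scoped commutatorElement TensorProduct

universe u v w

namespace Cfsg.Agent.CoprimeHHS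

namespace Special

variable {U : Type u} [Group U] [Finite U] {K : Type*} [Field K] [IsAlgClosed K] {V : Type*}
  [AddCommGroup V] [Module K V] [FiniteDimensional K V] {r : ℕ} {θ : MulAut U}
  {τ : U →* Module.End K V} {T : Module.End K V}

/-- The configuration carried along an isomorphism. -/
theorem congr (h : Special r θ τ T) {W : Type*} [Group W] [Finite W] (e : W ≃* U) :
    Special r ((e.trans θ).trans e.symm : MulAut W) (τ.comp e.toMonoidHom) T where
  cop := by
    refine ⟨h.cop.prime, MulEquiv.ext fun x => ?_, by rw [Nat.card_congr e.toEquiv]; exact h.cop.ndvd⟩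
    have key : ∀ n : ℕ, (((e.trans θ).trans e.symm : MulAut W) ^ n) x = e.symm ((θ ^ n) (e x)) := fun n => by
      induction n with
      | zero => exact (e.symm_apply_apply x).symm
      | succ n ih =>
        rw [pow_succ', MulAut.mul_apply, ih, pow_succ' θ, MulAut.mul_apply]
        simp
    rw [key, h.cop.pow_eq, MulAut.one_apply, MulAut.one_apply, e.symm_apply_apply]
  pgroup := h.pgroup.of_equiv e.symm
  rep := ⟨h.rep.pow, h.rep.sum, fun x => by
    show T * τ (e x) = τ (e (e.symm (θ (e x)))) * T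
    rw [e.apply_symm_apply]
    exact h.rep.conj _⟩
  inj := h.inj.comp e.injective
  gen := by
    refine Subgroup.map_injective (f := e.toMonoidHom) e.injective ?_
    rw [Subgroup.map_top_of_surjective _ e.surjective, ← h.gen, disp, disp, MonoidHom.map_closure]
    congr 1
    ext y
    constructor
    · rintro ⟨_, ⟨x, -, rfl⟩, rfl⟩
      exact ⟨e x, trivial, by simp⟩
    · rintro ⟨x, -, rfl⟩
      exact ⟨_, ⟨e.symm x, trivial, rfl⟩, by simp⟩
  two := h.two
  rK := h.rK

variable (h : Special r θ τ T)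
include h

theorem center_eq : Subgroup.center U = fixed θ := by
  ext z
  exact h.mem_center_iff

theorem fixed_le_commutator : fixed θ ≤ commutator U := by
  have hi : Inv θ (commutator U) := fun x hx =>
    Subgroup.characteristic_iff_map_le.1 inferInstance θ ⟨x, hx, rfl⟩
  have hab : ∀ a b : U ⧸ commutator U, a * b = b * a := fun a b => by
    obtain ⟨x, rfl⟩ := QuotientGroup.mk_surjective a
    obtain ⟨y, rfl⟩ := QuotientGroup.mk_surjective b
    rw [← QuotientGroup.mk_mul, ← QuotientGroup.mk_mul]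
    refine (QuotientGroup.eq (s := commutator U)).2 ?_
    rw [show (x * y)⁻¹ * (y * x) = ⁅y⁻¹, x⁻¹⁆ by rw [commutatorElement_def]; group]
    exact Subgroup.commutator_mem_commutator (Subgroup.mem_top _) (Subgroup.mem_top _)
  let δ : U ⧸ commutator U →* U ⧸ commutator U :=
    { toFun := fun a => a⁻¹ * hi.qAut a
      map_one' := by simp
      map_mul' := fun a b => by
        rw [map_mul, mul_inv_rev, mul_assoc, ← mul_assoc a⁻¹, hab (a⁻¹) _, ← mul_assoc b⁻¹, hab b⁻¹,
          mul_assoc, mul_assoc] }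
  have hsurj : Function.Surjective δ := by
    intro a
    obtain ⟨x, rfl⟩ := QuotientGroup.mk_surjective a
    have : (disp θ ⊤).map (QuotientGroup.mk' (commutator U)) ≤ δ.range := by
      rw [disp, MonoidHom.map_closure, Subgroup.closure_le]
      rintro _ ⟨_, ⟨y, -, rfl⟩, rfl⟩
      exact ⟨QuotientGroup.mk y, rfl⟩
    exact this ⟨x, h.gen.ge (Subgroup.mem_top x), rfl⟩
  intro z hz
  refine (QuotientGroup.eq_one_iff z).1 (Finite.injective_iff_surjective.2 hsurj ?_)
  rw [map_one]
  show (QuotientGroup.mk z : U ⧸ commutator U)⁻¹ * hi.qAut (QuotientGroup.mk z) = 1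
  rw [Inv.qAut_mk, mem_fixed.1 hz, inv_mul_cancel]

theorem commutator_eq : commutator U = fixed θ := by
  refine le_antisymm ?_ h.fixed_le_commutator
  rw [commutator_def, Subgroup.commutator_le]
  exact fun x _ y _ => h.comm_fixed x y

theorem frattini_eq : frattini U = fixed θ := by
  haveI := Fact.mk Nat.prime_two
  haveI := h.pgroup.isNilpotent
  refine le_antisymm (fun x hx => ?_) (h.fixed_le_commutator.trans (SolvStruct.commutator_le_frattini U))
  by_contra hxF
  haveI : (fixed θ).Normal := h.normal_of_fixed_le le_rfl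
  have hsq : ∀ a : U ⧸ fixed θ, a * a = 1 := fun a => by
    obtain ⟨y, rfl⟩ := QuotientGroup.mk_surjective a
    refine (QuotientGroup.eq_one_iff _).2 ?_
    show y * y ∈ fixed θ
    rw [← pow_two]
    exact h.sq_fixed y
  obtain ⟨ψ, hψ⟩ := Sector.exists_sign hsq (t := (QuotientGroup.mk x : U ⧸ fixed θ))
    (fun e => hxF ((QuotientGroup.eq_one_iff x).1 e))
  set φ := ψ.comp (QuotientGroup.mk' (fixed θ)) with hφ
  have hM : IsCoatom φ.ker := by
    refine ⟨fun e => hψ (e.ge (Subgroup.mem_top x) : φ x = 1), fun M hlt => ?_⟩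
    obtain ⟨y, hy, hyk⟩ := SetLike.exists_of_lt hlt
    refine (Subgroup.eq_top_iff' M).2 fun z => ?_
    by_cases hz : φ z = 1
    · exact hlt.le hz
    · have h1 : φ y = -1 := (Int.units_eq_one_or _).resolve_left hyk
      have h2 : φ z = -1 := (Int.units_eq_one_or _).resolve_left hz
      have h3 : z * y⁻¹ ∈ M := hlt.le (show φ (z * y⁻¹) = 1 by rw [map_mul, map_inv, h1, h2]; simp)
      have := M.mul_mem h3 hy
      rwa [inv_mul_cancel_right] at this
  exact hψ (frattini_le_coatom hM hx : φ x = 1)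

/-- A nontrivial configuration is a nonabelian special two-group and `r = 2 ^ n + 1`. -/
theorem isSpecial [Nontrivial U] :
    (∃ m : ℕ, r = 2 ^ m + 1) ∧ ¬ IsMulCommutative U ∧ Cfsg.IsSpecial 2 U := by
  have hne : fixed θ ≠ ⊤ := fun e => by
    have h1 : disp θ (⊤ : Subgroup U) = ⊥ := disp_eq_bot.2 e.ge
    rw [h.gen] at h1
    exact (top_ne_bot : (⊤ : Subgroup U) ≠ ⊥) h1
  obtain ⟨n, -, hn⟩ := h.exists_exp hne
  refine ⟨⟨n, hn⟩, fun hc => hne (eq_top_iff.2 fun x _ => h.fixed_of_comm (A := ⊤) Inv.top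
    (fun a _ b _ => hc.is_comm.comm a b) (Subgroup.mem_top x)), h.pgroup, ?_, ?_⟩
  · rw [h.frattini_eq, h.center_eq]
  · rw [h.commutator_eq, h.center_eq]

end Special

variable {X : Type u} [Group X] [Finite X] {k : Type w} [Field k] {p : ℕ} [hp : Fact p.Prime] [CharP k p]
  {V : Type v} [AddCommGroup V] [Module k V] {ρ : Representation k X V}

/-- A faithful irreducible group has no normal `p`-subgroup in characteristic `p`. -/
theorem pCore_eq_bot_of_irreducible [Nontrivial V] (hfaith : Function.Injective ρ)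
    (hirr : ∀ W : Submodule k V, (∀ x : X, W.map (ρ x) ≤ W) → W = ⊥ ∨ W = ⊤) {N : Subgroup X} (hn : N.Normal)
    (hN : IsPGroup p N) : N = ⊥ := by
  let W : Submodule k V :=
    { carrier := {v | ∀ y ∈ N, ρ y v = v}
      zero_mem' := fun y _ => map_zero _
      add_mem' := fun {a b} ha hb y hy => by rw [map_add, ha y hy, hb y hy]
      smul_mem' := fun c a ha y hy => by rw [map_smul, ha y hy] }
  have hinv : ∀ x : X, W.map (ρ x) ≤ W := by
    rintro x _ ⟨v, hv, rfl⟩ y hy
    have h1 : x⁻¹ * y * x ∈ N := hn.conj_mem' y hy x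
    calc ρ y (ρ x v) = ρ (y * x) v := by rw [map_mul]; rfl
      _ = ρ (x * (x⁻¹ * y * x)) v := by rw [show x * (x⁻¹ * y * x) = y * x by group]
      _ = ρ x (ρ (x⁻¹ * y * x) v) := by rw [map_mul]; rfl
      _ = ρ x v := by rw [hv _ h1]
  obtain ⟨w, hw⟩ := exists_ne (0 : V)
  obtain ⟨v, -, hv0, hv⟩ := PermModules.exists_fixed_vector hN (ρ.comp N.subtype) ⊤ (fun _ _ _ => trivial)
    (w := w) trivial hw
  refine (Subgroup.eq_bot_iff_forall _).2 fun y hy => hfaith ?_
  rcases hirr W hinv with e | e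
  · exact absurd ((Submodule.mem_bot k).1 (e.le (show v ∈ W from fun y hy => hv ⟨y, hy⟩))) hv0
  · rw [map_one]
    exact LinearMap.ext fun u => (e.ge (Submodule.mem_top : u ∈ ⊤)) y hy

theorem shult {p : ℕ} [hp : Fact p.Prime] [CharP k p] [FiniteDimensional k V] [Nontrivial V] (G R : Subgroup X) [G.Normal] (hX : G ⊔ R = ⊤) (r : ℕ)
    (hr : r.Prime) (hR : Nat.card R = r) (hcop : ¬ r ∣ Nat.card G) (hfaith : Function.Injective ρ)
    (hirr : ∀ W : Submodule k V, (∀ x : X, W.map (ρ x) ≤ W) → W = ⊥ ∨ W = ⊤)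
    (hfix : ∀ v : V, (∀ x ∈ R, ρ x v = v) → v = 0) :
    ⁅G, R⁆ = ⊥ ∨ ((∃ m : ℕ, r = 2 ^ m + 1) ∧ ¬ IsMulCommutative ↥⁅G, R⁆ ∧ Cfsg.IsSpecial 2 ↥⁅G, R⁆) := by
  classical
  haveI := Fact.mk hr
  haveI : Nontrivial R := Finite.one_lt_card_iff_nontrivial.1 (by rw [hR]; exact hr.one_lt)
  obtain ⟨⟨x0, hx0⟩, hx01⟩ := exists_ne (1 : R)
  have hgen : R = Subgroup.zpowers x0 := by
    refine (Subgroup.eq_of_le_of_card_ge (Subgroup.zpowers_le.2 hx0) ?_).symm
    rw [Nat.card_zpowers, hR, orderOf_eq_prime (p := r) (by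
      have := pow_card_eq_one' (x := (⟨x0, hx0⟩ : R))
      rw [hR] at this
      exact congrArg Subtype.val this) fun e => hx01 (Subtype.ext e)]
  have hx0r : x0 ^ r = 1 := by
    have := pow_card_eq_one' (x := (⟨x0, hx0⟩ : R))
    rw [hR] at this
    exact congrArg Subtype.val this
  set s : MulAut G := MulAut.conjNormal x0 with hs
  have hsv : ∀ g : G, (s g : X) = x0 * g * x0⁻¹ := fun g => MulAut.conjNormal_apply x0 g
  have hsr : s ^ r = 1 := by rw [hs, ← map_pow, hx0r, map_one]
  have hC : Cop r s := ⟨hr, hsr, hcop⟩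
  set T0 : Module.End k V := ρ x0 with hT0
  have hT0r : T0 ^ r = 1 := by rw [hT0, ← map_pow, hx0r, map_one]
  have hT0f : ∀ v, T0 v = v → v = 0 := fun v hv => hfix v fun x hx => by
    rw [hgen] at hx
    obtain ⟨n, rfl⟩ := (mem_powers_iff_mem_zpowers.2 hx)
    show ρ (x0 ^ n) v = v
    rw [map_pow]
    clear hx
    induction n with
    | zero => rfl
    | succ n ih => rw [pow_succ', Module.End.mul_apply, ih, ← hT0, hv]
  have hT0sum : ∑ i ∈ Finset.range r, T0 ^ i = 0 := LinearMap.ext fun v => hT0f _ (by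
    have h1 := congrArg (fun F : Module.End k V => F v) (mul_geom_sum T0 r)
    simp only [hT0r, sub_self, Module.End.mul_apply, LinearMap.sub_apply, Module.End.one_apply,
      LinearMap.zero_apply, sub_eq_zero] at h1
    exact h1)
  have hne : r ≠ p := by
    intro e
    haveI : CharP (Module.End k V) p := charP_of_injective_algebraMap' k p
    have h1 : (T0 - 1) ^ p = 0 := by
      have h2 := sub_pow_char_pow_of_commute (p := p) (n := 1) (Commute.one_right T0)
      rwa [pow_one, ← e, hT0r, one_pow, sub_self, e] at h2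
    have hinj : Function.Injective ⇑(T0 - 1) := (injective_iff_map_eq_zero _).2 fun v hv => hT0f v (by
      rwa [LinearMap.sub_apply, Module.End.one_apply, sub_eq_zero] at hv)
    have hall : ∀ n, Function.Injective ((T0 - 1) ^ n : Module.End k V) := fun n => by
      induction n with
      | zero => exact fun a b e => e
      | succ n ih => rw [pow_succ']; exact hinj.comp ih
    obtain ⟨v, hv⟩ := exists_ne (0 : V)
    exact hv (hall p (by rw [h1]; rfl))
  -- extension of the scalars
  haveI : CharP (AlgebraicClosure k) p := charP_of_injective_algebraMap' k p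
  let Φ : Module.End k V →ₐ[k] Module.End (AlgebraicClosure k) (AlgebraicClosure k ⊗[k] V) :=
    Module.End.baseChangeHom k (AlgebraicClosure k) V
  have hΦ : Function.Injective Φ := LinearMap.baseChangeHom_injective k V (AlgebraicClosure k)
  set τ : G →* Module.End (AlgebraicClosure k) (AlgebraicClosure k ⊗[k] V) :=
    Φ.toRingHom.toMonoidHom.comp ((ρ : X →* Module.End k V).comp G.subtype) with hτ
  have hinj : Function.Injective τ := fun a b e => Subtype.ext (hfaith (hΦ e))
  have hrep : Rep r s τ (Φ T0) := by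
    refine ⟨by rw [← map_pow, hT0r, map_one], by simp_rw [← map_pow, ← map_sum, hT0sum, map_zero],
      fun g => ?_⟩
    show Φ T0 * Φ (ρ (g : X)) = Φ (ρ (s g : X)) * Φ T0
    rw [← map_mul, ← map_mul, hT0, ← map_mul, ← map_mul, hsv, inv_mul_cancel_right]
  have hrK : (r : AlgebraicClosure k) ≠ 0 := fun e => hne ((Nat.prime_dvd_prime_iff_eq hp.out hr).1
    ((CharP.cast_eq_zero_iff _ p r).1 e)).symm
  have hcore : ∀ N : Subgroup X, N.Normal → IsPGroup p N → N = ⊥ := fun N hn hN =>
    pCore_eq_bot_of_irreducible hfaith hirr hn hN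
  have hcoreG : Cfsg.pCore p G = ⊥ := by
    haveI := PBasic.pCore_characteristic p G
    have h1 := hcore _ (inferInstance : ((Cfsg.pCore p G).map G.subtype).Normal)
      ((PBasic.pCore_isPGroup p G).map _)
    exact Subgroup.map_injective G.subtype_injective (h1.trans (Subgroup.map_bot _).symm)
  -- the commutator subgroup
  haveI := disp_normal s
  have hcom : ⁅G, R⁆ = (disp s (⊤ : Subgroup G)).map G.subtype := by
    refine le_antisymm (Subgroup.commutator_le.2 fun g hg a ha => ?_) ?_
    · rw [hgen] at ha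
      obtain ⟨n, rfl⟩ := mem_powers_iff_mem_zpowers.2 ha
      refine ⟨(⟨g, hg⟩ : G) * ((s ^ n) ⟨g, hg⟩)⁻¹, ?_, ?_⟩
      · have h1 : ((⟨g, hg⟩ : G))⁻¹ * (s ^ n) ⟨g, hg⟩ ∈ disp s (⊤ : Subgroup G) := by
          clear ha
          induction n with
          | zero => simp
          | succ n ih =>
            rw [pow_succ', MulAut.mul_apply]
            have h2 := mul_mem ih (disp_mem (s := s) (Subgroup.mem_top ((s ^ n) ⟨g, hg⟩)))
            rwa [mul_assoc, mul_inv_cancel_left] at h2
        have h2 := (disp_normal s).conj_mem _ (inv_mem h1) (⟨g, hg⟩ : G)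
        rw [mul_inv_rev, inv_inv] at h2
        simpa [mul_assoc] using h2
      · show g * (((s ^ n) ⟨g, hg⟩ : G) : X)⁻¹ = ⁅g, x0 ^ n⁆
        rw [hs, ← map_pow, MulAut.conjNormal_apply, commutatorElement_def]
        group
    · rw [disp, MonoidHom.map_closure, Subgroup.closure_le]
      rintro _ ⟨_, ⟨g, -, rfl⟩, rfl⟩
      show ((g⁻¹ * s g : G) : X) ∈ ⁅G, R⁆
      rw [Subgroup.coe_mul, Subgroup.coe_inv, hsv,
        show (g : X)⁻¹ * (x0 * g * x0⁻¹) = ⁅(g : X)⁻¹, x0⁆ by rw [commutatorElement_def]; group]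
      exact Subgroup.commutator_mem_commutator (inv_mem g.2) hx0
  by_cases hp2 : p = 2
  · subst hp2
    refine Or.inl ?_
    have hall : ∀ q : ℕ, q.Prime → q ∣ (fixed s).index → q = 2 := by
      intro q hq hd
      by_contra hq2
      haveI := Fact.mk hq
      obtain ⟨Q, -, -, hQi, hQp, hQc⟩ := hC.exists_sylow_ge q Inv.top bot_le IsPGroup.of_bot Inv.bot
      have hqr : q ≠ r := fun e => hcop (e ▸ hd.trans (fixed s).index_dvd_card)
      have hqK : (q : AlgebraicClosure k) ≠ 0 := fun e => hq2
        ((Nat.prime_dvd_prime_iff_eq hp.out hq).1 ((CharP.cast_eq_zero_iff _ 2 q).1 e)).symm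
      have hQf : Q ≤ fixed s := fun x hx => by
        have h1 := CoprimeFree.action_trivial hq2 hqr hrK hqK hQp (τ.comp Q.subtype) (Φ T0) hQi.aut
          (hC.sub hQi).pow_eq hrep.pow hrep.sum (hrep.comp hQi).conj ⟨x, hx⟩
        exact hinj h1
      rw [Subgroup.card_top] at hQc
      obtain ⟨c, hc⟩ := hd
      have h2 : q ^ (Nat.card G).factorization q * q ∣ Nat.card G := by
        conv_rhs => rw [← (fixed s).card_mul_index, hc, ← mul_assoc]
        exact dvd_mul_of_dvd_left (mul_dvd_mul_right (hQc ▸ Subgroup.card_dvd_of_le hQf) q) c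
      rw [← pow_succ] at h2
      exact absurd ((hq.pow_dvd_iff_le_factorization Nat.card_pos.ne').1 h2) (by omega)
    set Cx := Subgroup.centralizer ({x0} : Set X) with hCx
    have hRC : R ≤ Cx := hgen ▸ Subgroup.zpowers_le.2 (Subgroup.mem_centralizer_singleton_iff.2 rfl)
    have hCs : Cx.subgroupOf G = fixed s := by
      ext g
      rw [Subgroup.mem_subgroupOf, Subgroup.mem_centralizer_singleton_iff, mem_fixed, Subtype.ext_iff, hsv,
        mul_inv_eq_iff_eq_mul, eq_comm]
    have hidx : Cx.index = (fixed s).index := by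
      rw [← hCs, Subgroup.index_eq_card, Subgroup.index_eq_card]
      let f : G ⧸ Cx.subgroupOf G → X ⧸ Cx := Quotient.map' Subtype.val fun a b hab => by
        rw [QuotientGroup.leftRel_apply] at hab ⊢
        exact hab
      refine (Nat.card_congr (Equiv.ofBijective f ⟨?_, ?_⟩)).symm
      · intro a b
        induction a using QuotientGroup.induction_on with
        | H a =>
        induction b using QuotientGroup.induction_on with
        | H b =>
        intro hab
        exact QuotientGroup.eq.2 ((QuotientGroup.eq (s := Cx)).1 hab)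
      · intro q
        obtain ⟨x, rfl⟩ := QuotientGroup.mk_surjective q
        obtain ⟨g, hg, a, ha, rfl⟩ := Subgroup.mem_sup_of_normal_left.1 (hX.ge (Subgroup.mem_top x))
        exact ⟨QuotientGroup.mk ⟨g, hg⟩, QuotientGroup.eq.2 (by simpa using hRC ha)⟩
    have hcl : ∃ a : ℕ, Cx.index = 2 ^ a :=
      ⟨_, hidx.trans (Nat.eq_prime_pow_of_unique_prime_dvd Subgroup.index_ne_zero_of_finite
        (fun {d} hd hdd => hall d hd hdd))⟩
    have hbot := hcore (Cfsg.pCore 2 X) (Cfsg.pCore_normal 2 X) (PBasic.pCore_isPGroup 2 X)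
    rw [hcom, Subgroup.map_eq_bot_iff_of_injective _ G.subtype_injective, disp_eq_bot]
    intro g _
    have h1 := Kazarin.commutator_mem_pCore x0 hcl (g : X) 1
    rw [hbot, Subgroup.mem_bot, one_mul, inv_one, mul_one] at h1
    set y := (g : X) * x0 * (g : X)⁻¹ with hy
    have hcy : Commute y x0 := by
      have h2 := mul_inv_eq_one.1 h1
      rwa [mul_inv_eq_iff_eq_mul] at h2
    have hyr : y ^ r = 1 := by rw [hy, conj_pow, hx0r, mul_one, mul_inv_cancel]
    have hc1 : (g * (s g)⁻¹ : G) = 1 := by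
      have hval : ((g * (s g)⁻¹ : G) : X) = y * x0⁻¹ := by
        rw [Subgroup.coe_mul, Subgroup.coe_inv, hsv, hy]; group
      have hpow : (g * (s g)⁻¹ : G) ^ r = 1 := Subtype.ext (by
        rw [Subgroup.coe_pow, hval, (hcy.inv_right).mul_pow, hyr, inv_pow, hx0r, inv_one, mul_one]; rfl)
      have h4 := pow_gcd_eq_one.2 ⟨hpow, pow_card_eq_one' (x := (g * (s g)⁻¹ : G))⟩
      rwa [show Nat.gcd r (Nat.card G) = 1 from hr.coprime_iff_not_dvd.2 hcop, pow_one] at h4
    exact (mul_inv_eq_one.1 hc1).symm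
  · have h2K : (2 : AlgebraicClosure k) ≠ 0 := fun e => hp2
      ((Nat.prime_dvd_prime_iff_eq hp.out Nat.prime_two).1
        ((CharP.cast_eq_zero_iff _ p 2).1 (by exact_mod_cast e)))
    have hF : Faith r s τ (Φ T0) := ⟨hC, hrep, hinj, h2K, hrK⟩
    set E := disp s (⊤ : Subgroup G) with hE
    by_cases hE0 : E = ⊥
    · exact Or.inl (by rw [hcom, hE0, Subgroup.map_bot])
    refine Or.inr ?_
    have hEi : Inv s E := inv_disp Inv.top
    have hEd : disp s E = E := hC.disp_disp Inv.top
    have hEp : ¬ p ∣ Nat.card E := fun hd => by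
      obtain ⟨x, hx⟩ := exists_prime_orderOf_dvd_card' (G := E) p hd
      have hzp : IsPGroup p (Subgroup.zpowers (x : G)) :=
        IsPGroup.of_card (n := 1) (by rw [Nat.card_zpowers, Subgroup.orderOf_coe, hx, pow_one])
      have h1 := disp_le_pCore hp.out hp2 hC hrep hinj (Subgroup.zpowers_le.2 x.2) hzp
      rw [hcoreG, Subgroup.zpowers_le, Subgroup.mem_bot] at h1
      rw [show x = 1 from Subtype.ext h1, orderOf_one] at hx
      exact hp.out.ne_one hx.symm
    haveI := Fact.mk Nat.prime_two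
    obtain ⟨S', -, hS'E, hS'i, hS'p, hS'c⟩ :=
      hC.exists_sylow_ge 2 hEi (bot_le : (⊥ : Subgroup G) ≤ E) IsPGroup.of_bot Inv.bot
    have hE2 : IsPGroup 2 E := by
      have h1 := (hF.sub hEi).disp_top_eq (hEi.subgroupOf hS'i)
        (by rw [Nat.card_congr (Subgroup.subgroupOfEquivOfLe hS'E).toEquiv, hS'c]) fun q hq hd e =>
          hEp (((Nat.prime_dvd_prime_iff_eq hp.out hq).1 ((CharP.cast_eq_zero_iff _ p q).1 e)) ▸ hd)
      have h2 := congrArg (Subgroup.map E.subtype) h1
      have hdH := disp_subgroupOf hEi (le_refl E)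
      rw [Subgroup.subgroupOf_self] at hdH
      rw [hdH, disp_subgroupOf hEi hS'E, hEd] at h2
      exact hS'p.to_le (h2.le.trans (disp_le hS'i))
    have hS0 := hF.special hEi hE2
    let e : ↥⁅G, R⁆ ≃* ↥(disp s E) := ((MulEquiv.subgroupCongr (show ⁅G, R⁆ = (disp s E).map G.subtype by
      rw [hEd]; exact hcom)).trans ((disp s E).equivMapOfInjective G.subtype G.subtype_injective).symm)
    haveI : Nontrivial ↥⁅G, R⁆ := (Subgroup.nontrivial_iff_ne_bot _).2 fun e0 => hE0 (by
      rw [hcom, Subgroup.map_eq_bot_iff_of_injective _ G.subtype_injective] at e0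
      exact e0)
    exact (hS0.congr e).isSpecial

end Cfsg.Agent.CoprimeHHS
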